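import Cfsg.Agent.TAB.B.D.A
import Cfsg.Agent.TAB.B.D.C

/-!
# The 27 boxes in the sections of the classes 5A, 5B, 7A of the Baby Monster (helper14, TAB)
-/

set_option autoImplicit false

namespace Cfsg.Agent.TAB.B.D

theorem boxesC : ∀ i ∈ [17, 18, 30, 47, 49, 52, 75, 76, 77, 80, 81, 102, 103, 105, 106, 124, 133, 134, 135, 138, 146, 156,
    157, 158, 159, 170, 172], BoxCB i := by
  simp only [List.forall_mem_cons, List.not_mem_nil, false_imp_iff, implies_true, and_true]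
  exact ⟨boxC_5A, boxC_5B, boxC_7A, boxC_10A, boxC_10C, boxC_10F, boxC_14A, boxC_14B, boxC_14C, boxC_15A, boxC_15B,
    boxC_20G, boxC_20H, boxC_20J, boxC_21A, boxC_25A, boxC_30A, boxC_30B, boxC_30C, boxC_30F, boxC_35A, boxC_40E,
    boxC_42A, boxC_42B, boxC_42C, boxC_60C, boxC_70A⟩

theorem boxes : ∀ i ∈ [17, 18, 30, 47, 49, 52, 75, 76, 77, 80, 81, 102, 103, 105, 106, 124, 133, 134, 135, 138, 146, 156,
    157, 158, 159, 170, 172], BoxB i := fun i hi => (boxesC i hi).box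

end Cfsg.Agent.TAB.B.D
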