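import Cfsg.Agent.TAB.B.D.Spor
import Cfsg.Agent.BMx.Loc5
import Cfsg.Agent.H436.B7

/-!
# The frames of the Baby Monster at the primes 5 and 7 (helper14, TAB)
-/

set_option autoImplicit false
set_option maxRecDepth 100000

namespace Cfsg.Agent.TAB.B.D

open Cfsg Subgroup
open Cfsg.Agent.LThreeMB (XX Zx mk mk_eq_one self)

section gen

variable {G B S : Type*} [Group G] [Group B] [Group S] [Finite G] {t : G}

omit [Finite G] in
theorem cov_of (ht : orderOf t = 2) (h2 : Nat.card (center (centralizer ({t} : Set G))) = 2)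
    (e : centralizer ({t} : Set G) ⧸ center (centralizer ({t} : Set G)) ≃* B) :
    Cov (e.toMonoidHom.comp (QuotientGroup.mk' _)) (self t) := by
  have h1 : self t ≠ 1 := fun h => by
    rw [show t = 1 from congrArg Subtype.val h, orderOf_one] at ht
    norm_num at ht
  have h3 := LThreeMB.self_mem_center t
  refine ⟨e.surjective.comp (QuotientGroup.mk'_surjective _), Subtype.ext ?_, h1, fun x => mem_center_iff.1 h3 x, ?_,
    fun x hx => ?_⟩
  · show t * t = 1
    rw [← pow_two, ← ht, pow_orderOf_eq_one]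
  · show e (QuotientGroup.mk _) = 1
    rw [(QuotientGroup.eq_one_iff _).2 h3, map_one]
  · have h4 : x ∈ center (centralizer ({t} : Set G)) := (QuotientGroup.eq_one_iff _).1 ((map_eq_one_iff e e.injective).1 hx)
    obtain ⟨y, -, hy⟩ := (Nat.card_eq_two_iff' (1 : center (centralizer ({t} : Set G)))).1 h2
    by_cases h5 : x = 1
    · exact Or.inl h5
    · exact Or.inr (congrArg Subtype.val ((hy ⟨x, h4⟩ fun h => h5 (congrArg Subtype.val h)).trans
        (hy ⟨_, h3⟩ fun h => h1 (congrArg Subtype.val h)).symm))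

theorem fr_of {q : centralizer ({t} : Set G) →* B} (C : Cov q (self t)) (ht : orderOf t = 2) {p : ℕ} (hp : p.Prime)
    (ho : Odd p) {a : centralizer ({t} : Set G)} (ha : orderOf a = p) (e : XX (a : G) ≃* S) :
    ∃ (k : centralizer ({a} : Set (centralizer ({t} : Set G))) →* S) (τ : S), Fr q (self t) p a k τ := by
  let ι : centralizer ({a} : Set (centralizer ({t} : Set G))) →* centralizer ({(a : G)} : Set G) :=
    { toFun := fun d => ⟨(d : centralizer ({t} : Set G)), mem_centralizer_singleton_iff.2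
        (congrArg Subtype.val (mem_centralizer_singleton_iff.1 d.2))⟩
      map_one' := rfl
      map_mul' := fun _ _ => rfl }
  refine ⟨e.toMonoidHom.comp ((QuotientGroup.mk' _).comp ι), _, C, hp, ho, ha, rfl, fun d hd => ?_, fun s hs => ?_⟩
  · have h1 : QuotientGroup.mk' (Zx (a : G)) (ι d) = 1 := (map_eq_one_iff e e.injective).1 hd
    have h2 : ι d ∈ Zx (a : G) := (QuotientGroup.eq_one_iff _).1 h1
    obtain ⟨i, hi⟩ := mem_zpowers_iff.1 h2
    have h3 : (a : G) ^ i = ((d : centralizer ({t} : Set G)) : G) := congrArg Subtype.val hi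
    exact mem_zpowers_iff.2 ⟨i, Subtype.ext h3⟩
  · have h1 : (Nat.card (Zx (a : G))).Coprime 2 := by
      rw [Zx, Nat.card_zpowers, ← orderOf_coe]
      show (orderOf (a : G)).Coprime 2
      rw [orderOf_coe, ha]
      exact Nat.coprime_two_right.2 ho
    have h2 : orderOf (ι (ce a (C.tc a).symm)) = 2 := by rw [← orderOf_coe]; exact ht
    have h3 : e.symm s ∈ centralizer ({QuotientGroup.mk' (Zx (a : G)) (ι (ce a (C.tc a).symm))} : Set (XX (a : G))) := by
      rw [mem_centralizer_singleton_iff]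
      apply e.injective
      rw [map_mul, map_mul, e.apply_symm_apply]
      exact hs
    rw [LThree.Red.centralizer_mk Nat.prime_two _ h1 h2] at h3
    obtain ⟨c, hc, hce⟩ := h3
    refine ⟨⟨⟨c, mem_centralizer_singleton_iff.2 (congrArg Subtype.val (mem_centralizer_singleton_iff.1 hc))⟩,
      mem_centralizer_singleton_iff.2 (Subtype.ext (mem_centralizer_singleton_iff.1 c.2))⟩, ?_⟩
    show e (QuotientGroup.mk' _ c) = s
    rw [hce, e.apply_symm_apply]

end gen

theorem Cov.exists_lift {E B : Type*} [Group E] [Group B] {q : E →* B} {t : E} (h : Cov q t) {y : B} {p : ℕ}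
    (hp : p.Prime) (ho : Odd p) (hy : orderOf y = p) : ∃ a, q a = y ∧ orderOf a = p := by
  have := Fact.mk hp
  obtain ⟨c, rfl, hc⟩ := h.exists_odd ho (show y ^ p = 1 by rw [← hy, pow_orderOf_eq_one])
  refine ⟨c * t, by rw [map_mul, h.qt, mul_one], orderOf_eq_prime ?_ fun h1 => ?_⟩
  · rw [(show Commute c t from h.tc c).mul_pow, hc, h.t_pow ho, h.t2]
  · have h2 := congrArg q h1
    rw [map_mul, h.qt, mul_one, map_one] at h2
    rw [h2, orderOf_one] at hy
    exact hp.one_lt.ne hy

section

open Cfsg.Agent.MonsterX Cfsg.Agent.H979.OddB Cfsg.Agent.H630.NH Cfsg.Agent.H241.NH Cfsg.Agent.H630.Baby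
open Cfsg.Agent.LThreeB (XT centXT)

/-- **the frames** -/
theorem exists_frames {L : Type} [Group L] (h : Spor.IsoB L) :
    ∃ (E : Type) (_ : Group E) (_ : Finite E) (q : E →* L) (t : E),
      (∀ x : L, orderOf x = 5 → 504 ∣ c1 x →
        ∃ (a : E) (k : centralizer ({a} : Set E) →* Spor.HN) (σ : Spor.HN), q a = x ∧ Fr q t 5 a k σ) ∧
      ∀ x : L, orderOf x = 7 →
        ∃ (a : E) (k : centralizer ({a} : Set E) →* Spor.He) (σ : Spor.He), q a = x ∧ Fr q t 7 a k σ := by
  have hfin : Finite ↥InstData.M.G := MThirteen.Row.finite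
  obtain ⟨t, ht, h2, ⟨e⟩⟩ := exists_cover h
  have hto := MThirteen.Row.ta_order ht
  have C := cov_of hto h2 e
  refine ⟨centralizer ({t} : Set ↥InstData.M.G), inferInstance, inferInstance,
    e.toMonoidHom.comp (QuotientGroup.mk' _), self t, fun x hx hd => ?_, fun x hx => ?_⟩
  · obtain ⟨a, rfl, ha⟩ := C.exists_lift Nat.prime_five (by decide) hx
    have haM : orderOf (a : ↥InstData.M.G) = 5 := by rw [orderOf_coe, ha]
    have hat : (a : ↥InstData.M.G) * t = t * a := mem_centralizer_singleton_iff.1 a.2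
    have h1 := (C.c2_dvd (a := a) (n := 5) (by decide) (by rw [← hx, pow_orderOf_eq_one]) 1).2
      (C.no_swap (n := 1) odd_one (by rw [map_one, one_pow]))
    rw [map_one, c2_one, c2_one] at h1
    have hc : Nat.card (XT (a : ↥InstData.M.G) t) = 2 * c1 _ := (Nat.card_congr (centXT a).toEquiv).trans h1.symm
    have h4 : 4 ∣ Nat.card (centralizer ({(a : ↥InstData.M.G)} : Set ↥InstData.M.G)) := by
      refine (Dvd.dvd.trans ?_ (dvd_of_eq hc.symm)).trans (card_dvd_of_le inf_le_left)
      exact ((show 4 ∣ 504 by norm_num).trans hd).mul_left 2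
    have hex := (CpAutBFive.EvenRow.cases haM).resolve_right fun h => h h4
    rcases H988.TC.five_cases5 haM hto (MThirteen.Row.ta_ne ht) hat hex with ⟨⟨f⟩⟩ | ⟨n, m, h5, h6, h7, h8⟩
    · obtain ⟨k, σ, F⟩ := fr_of C hto Nat.prime_five (by decide) ha f
      exact ⟨a, k, σ, rfl, F⟩
    · exfalso
      rw [hc, mul_left_comm] at h5
      rw [Nat.eq_of_mul_eq_mul_left (by norm_num) h5] at hd
      have h9 : 504 ∣ m := (Nat.Coprime.coprime_dvd_right h8 (by norm_num)).dvd_of_dvd_mul_left hd
      have h10 : m ≠ 0 := by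
        rintro rfl
        have h11 : 0 < Nat.card (XT (a : ↥InstData.M.G) t) := Nat.card_pos
        omega
      omega
  · obtain ⟨a, rfl, ha⟩ := C.exists_lift (by norm_num : Nat.Prime 7) (by decide) hx
    have haM : orderOf (a : ↥InstData.M.G) = 7 := by rw [orderOf_coe, ha]
    obtain ⟨f⟩ := H436.B7.isoHe ht haM (mem_centralizer_singleton_iff.1 a.2)
    obtain ⟨k, σ, F⟩ := fr_of C hto (by norm_num : Nat.Prime 7) (by decide) ha f
    exact ⟨a, k, σ, rfl, F⟩

end

end Cfsg.Agent.TAB.B.D
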