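import Cfsg.Agent.TAB.B.D.Abs
import Cfsg.Agent.SigZeroHN.Main
import Cfsg.Agent.HN.Classes
import Cfsg.Agent.H651.HNF.Main
import Cfsg.Agent.TID.SO.C.HeRu
import Cfsg.Agent.KFacts.He.TwoACent
import Cfsg.Agent.KFacts.He.Classes

/-!
# Frames over `HN` and `He` (helper14, TAB)
-/

set_option autoImplicit false
set_option maxRecDepth 100000

namespace Cfsg.Agent.TAB.B.D

open Cfsg Subgroup

theorem le_of_dvd_le {a b c d e : ℕ} (h : a ∣ b * c) (hb : 0 < b) (hc : 0 < c) (hd : c ≤ d) (he : b * d ≤ e) : a ≤ e :=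
  (Nat.le_of_dvd (Nat.mul_pos hb hc) h).trans ((Nat.mul_le_mul_left b hd).trans he)

variable {E B : Type*} [Group E] [Group B] [Finite E] {q : E →* B} {t a : E}

section HN

open Cfsg.Agent.HN.Pres Cfsg.Agent.HN.H0Basic Cfsg.Agent.HN.Syl Cfsg.Agent.KFacts.HN
open Cfsg.Agent.HN.NormalH (ψ)
open Cfsg.Agent.H651.HNF (raw)

theorem finHN : Finite Spor.HN := Nat.finite_of_card_ne_zero (by rw [raw.card]; norm_num)

/-- the involutions commuting with an involution of the class `2A` -/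
theorem hn_inv {σ s : Spor.HN} (hσ : IsConj σ (ψ τ)) (h2 : s * s = 1) (h1 : s ≠ 1) (hne : s ≠ σ) (hc : s * σ = σ * s) :
    c2 σ s ∣ 30720 ∨ c2 σ s ≤ 80640 ∧ ∀ v, v * σ = σ * v → v * v ≠ s := by
  have := finite_H0
  obtain ⟨c, hcc⟩ := isConj_iff.1 hσ
  have hcm : ∀ v : Spor.HN, v * σ = σ * v → ∃ h, ψ h = c * v * c⁻¹ := fun v hv => emb.cent _ (by
    rw [← hcc]
    calc c * v * c⁻¹ * (c * σ * c⁻¹) = c * (v * σ) * c⁻¹ := by group
      _ = c * (σ * v) * c⁻¹ := by rw [hv]
      _ = c * σ * c⁻¹ * (c * v * c⁻¹) := by group)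
  obtain ⟨h, hh⟩ := hcm s hc
  have hh2 : h ^ 2 = 1 := by
    apply emb.inj
    rw [map_pow, map_one, hh, conj_pow, pow_two, h2]
    group
  have hdvd : c2 σ s ∣ c1 h := by
    have e : ((centralizer ({σ} : Set Spor.HN) ⊓ centralizer ({s} : Set Spor.HN)).map (MulAut.conj c).toMonoidHom) ≤
        (centralizer ({h} : Set H0)).map ψ := by
      rintro _ ⟨b, hb, rfl⟩
      obtain ⟨k, hk⟩ := hcm b (mem_centralizer_singleton_iff.1 hb.1)
      refine ⟨k, mem_centralizer_singleton_iff.2 (emb.inj ?_), hk⟩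
      rw [map_mul, map_mul, hk, hh]
      calc c * b * c⁻¹ * (c * s * c⁻¹) = c * (b * s) * c⁻¹ := by group
        _ = c * (s * b) * c⁻¹ := by rw [mem_centralizer_singleton_iff.1 hb.2]
        _ = c * s * c⁻¹ * (c * b * c⁻¹) := by group
    have h6 := card_dvd_of_le e
    rwa [card_map_of_injective (MulAut.conj c).injective, card_map_of_injective emb.inj] at h6
  have hsq : IsConj gz h ∨ IsConj HN.Syl.d h → ∀ v, v * σ = σ * v → v * v ≠ s := fun h3 v hv h4 => by
    obtain ⟨k, hk⟩ := hcm v hv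
    refine HN.Classes.not_sq_of_isConj h3 (v := k) (emb.inj ?_)
    rw [map_pow, hk, hh, conj_pow, pow_two, h4]
  rcases involution_cases hh2 with h3 | h3 | h3 | h3 | h3 | h3
  · rw [h3, map_one] at hh
    exact absurd (by simpa using hh.symm) h1
  · rw [h3, ← hcc] at hh
    exact absurd (mul_left_cancel (mul_right_cancel hh)).symm hne
  · exact Or.inl (by rwa [← c1_conj h3, c1, HN.CentUp.card_centralizer_a] at hdvd)
  · exact Or.inl (by rwa [← c1_conj h3, c1, HN.CentUp.card_centralizer_aτ] at hdvd)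
  · rw [← c1_conj h3] at hdvd
    exact Or.inr ⟨(Nat.le_of_dvd Nat.card_pos hdvd).trans HN.CentCards.card_centralizer_z, hsq (Or.inl h3)⟩
  · rw [← c1_conj h3] at hdvd
    exact Or.inr ⟨(Nat.le_of_dvd Nat.card_pos hdvd).trans (HN.CentCards.card_centralizer_d.trans (by norm_num)),
      hsq (Or.inr h3)⟩

variable {k : centralizer ({a} : Set E) →* Spor.HN} {σ : Spor.HN}

theorem Fr.hn_conj (F : Fr q t 5 a k σ) (h7 : 7 ∣ c1 (q a)) : IsConj σ (ψ τ) ∧ c1 σ = 177408000 := by
  refine (SigZeroHN.card_centralizer_cases F.τ_ord).resolve_right fun h => ?_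
  have h1 := (h7.trans (Dvd.intro_left 2 rfl)).trans F.top
  rw [c1, h.2] at h1
  norm_num at h1

theorem Fr.hn_top (F : Fr q t 5 a k σ) (h7 : 7 ∣ c1 (q a)) : c1 (q a) ≤ 443520000 := by
  have h1 := F.top
  rw [(F.hn_conj h7).2] at h1
  have := Nat.le_of_dvd (by norm_num) h1
  omega

omit [Finite E] in
theorem Fr.k_ne {S : Type*} [Group S] {p : ℕ} {k : centralizer ({a} : Set E) →* S} {σ : S} (F : Fr q t p a k σ)
    {d : centralizer ({a} : Set E)} (h : d * d = 1) (h1 : q d ≠ 1) : k d ≠ 1 ∧ k d ≠ σ := by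
  refine ⟨fun h2 => h1 ?_, fun h2 => h1 ?_⟩
  · rw [F.pow_eq_one ((pow_two d).trans h) F.not_dvd_two h2]
    exact map_one q
  · have h3 : d * ce a (F.cov.tc a).symm = 1 := F.pow_eq_one (n := 2) (Subtype.ext (by
      show ((d : E) * t) ^ 2 = 1
      rw [(show Commute (d : E) t from F.cov.tc d).mul_pow, pow_two, pow_two, F.cov.t2, mul_one]
      exact congrArg Subtype.val h)) F.not_dvd_two (by rw [map_mul, h2, F.kt, F.τ_sq])
    have h4 : q (d * t) = q 1 := congrArg (fun z : centralizer ({a} : Set E) => q z) h3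
    rwa [map_mul, F.cov.qt, mul_one, map_one] at h4

theorem Fr.hn_two (F : Fr q t 5 a k σ) (h7 : 7 ∣ c1 (q a)) {y : B} (hy : orderOf y = 2) (hc : y * q a = q a * y) :
    c2 (q a) y ≤ 403200 := by
  have := finHN
  obtain ⟨c, rfl⟩ := F.cov.surj y
  have h1 : q c ≠ 1 := fun h => by rw [h, orderOf_one] at hy; norm_num at hy
  rcases F.cov.ker (c * c) (by rw [map_mul, ← pow_two, ← hy, pow_orderOf_eq_one]) with h2 | h2
  · have h3 : ce a (F.comm hc) * ce a (F.comm hc) = 1 := Subtype.ext h2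
    obtain ⟨h4, h5⟩ := F.k_ne h3 h1
    refine le_of_dvd_le (F.dvd (ce a (F.comm hc))) (by norm_num) Nat.card_pos (d := 80640) ?_ (by norm_num)
    rcases hn_inv (F.hn_conj h7).1 (by rw [← map_mul, h3, map_one]) h4 h5 (F.k_comm _) with h6 | h6
    · exact (Nat.le_of_dvd (by norm_num) h6).trans (by norm_num)
    · exact h6.1
  · obtain ⟨s, h3, -, h4⟩ := F.sq_case (m := 1) one_pos (by norm_num) hy (by rw [pow_one]; exact F.cov.sq_of h2) hc
    refine le_of_dvd_le h4 (by norm_num) Nat.card_pos (d := 15360) ?_ (by norm_num)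
    rcases raw.r4 s h3 with h | h | h <;> exact h.2.le.trans (by norm_num)

/-- **the lifts of the class `2C` have order four** -/
theorem Fr.hn_sq (F : Fr q t 5 a k σ) (h7 : 7 ∣ c1 (q a)) {y : B} (hy : orderOf y = 4) (hc : y * q a = q a * y)
    (h9 : 9 ∣ c2 (q a) (y * y)) : Sq q t (y * y) := by
  obtain ⟨c, rfl⟩ := F.cov.surj y
  rw [← map_mul]
  refine F.cov.sq_of ((F.cov.ker _ ?_).resolve_left fun h2 => ?_)
  · rw [show c * c * (c * c) = c ^ 4 by simp only [pow_succ, pow_zero, one_mul, mul_assoc], map_pow, ← hy,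
      pow_orderOf_eq_one]
  · obtain ⟨d, rfl⟩ : ∃ d : centralizer ({a} : Set E), (d : E) = c := ⟨ce a (F.comm hc), rfl⟩
    have h3 : d * d * (d * d) = 1 := Subtype.ext h2
    obtain ⟨h4, h5⟩ := F.k_ne h3 (fun h => by
      have h6 : orderOf (q d) ∣ 2 := orderOf_dvd_of_pow_eq_one (by rw [pow_two, ← map_mul]; exact h)
      rw [hy] at h6
      norm_num at h6)
    rcases hn_inv (F.hn_conj h7).1 (by rw [← map_mul, h3, map_one]) h4 h5 (F.k_comm _) with h6 | h6
    · rw [← map_mul] at h9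
      have h8 := (h9.trans (F.dvd (d * d))).trans (mul_dvd_mul_left 5 h6)
      norm_num at h8
    · exact h6.2 _ (F.k_comm d) (map_mul k d d).symm

theorem Fr.hn_three (F : Fr q t 5 a k σ) {y : B} (hy : orderOf y = 3) (hc : y * q a = q a * y) :
    c2 (q a) y ≤ 3600 := by
  have := finHN
  obtain ⟨s, h1, h2⟩ := F.odd_case Nat.prime_three (by decide) (by norm_num) hy hc
  have h3 := le_of_dvd_le h2 (by norm_num) Nat.card_pos (d := 1440) (e := 7200)
    (by rcases raw.r6 s h1 with h | h | h <;> exact h.2.2.le.trans (by norm_num)) (by norm_num)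
  omega

theorem Fr.hn_four (F : Fr q t 5 a k σ) (h7 : 7 ∣ c1 (q a)) {y : B} (hy : orderOf y = 2) (hs : Sq q t y)
    (hc : y * q a = q a * y) : c2 (q a) y ≤ 28800 := by
  have := finHN
  obtain ⟨s, h1, h2, h3⟩ := F.sq_case (m := 1) one_pos (by norm_num) hy (by rwa [pow_one]) hc
  refine le_of_dvd_le h3 (by norm_num) Nat.card_pos (d := 5760) ?_ (by norm_num)
  have h4 : H651.HNF.cn (s ^ 2) = 177408000 := by rw [h2]; exact (F.hn_conj h7).2
  rcases raw.r4 s h1 with h | h | h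
  · rw [h4] at h
    exact absurd h.1 (by norm_num)
  · exact h.2.le
  · exact h.2.le.trans (by norm_num)

theorem Fr.hn_eight (F : Fr q t 5 a k σ) {y : B} (hy : orderOf y = 4) (hs : Sq q t (y ^ 2))
    (hc : y * q a = q a * y) : c2 (q a) y ≤ 400 := by
  have := finHN
  obtain ⟨s, h1, -, h3⟩ := F.sq_case (m := 2) two_pos (by norm_num) hy hs hc
  refine le_of_dvd_le h3 (by norm_num) Nat.card_pos (d := 80) ?_ (by norm_num)
  rcases raw.r8 s h1 with h | h <;> exact h.2.le.trans (by norm_num)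

theorem Fr.hn_twelve (F : Fr q t 5 a k σ) {y : B} (hy : orderOf y = 6) (hs : Sq q t (y ^ 3))
    (hc : y * q a = q a * y) : c2 (q a) y ≤ 360 := by
  have := finHN
  obtain ⟨s, h1, -, h3⟩ := F.sq_case (m := 3) three_pos (by norm_num) hy hs hc
  refine le_of_dvd_le h3 (by norm_num) Nat.card_pos (d := 72) ?_ (by norm_num)
  rcases raw.r12 s h1 with h | h | h <;> exact h.2.2.le.trans (by norm_num)

end HN

section He

open Cfsg.Agent.KFacts.He

theorem finHe : Finite Spor.He := Nat.finite_of_card_ne_zero (by rw [Classes.card_he]; norm_num)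

theorem he_le {s : Spor.He} {n c : ℕ} (hs : orderOf s = n)
    (h : ∀ i : Fin 33, (H235.Ore.He.V.getD i (0, 0, 0)).1 = n → H825.SB.He.C33.getD i 0 ≤ c) : c1 s ≤ c := by
  obtain ⟨i, h1, h2⟩ := TID.SO.C.he_oc s
  exact h2.le.trans (h i (h1.symm.trans hs))

variable {k : centralizer ({a} : Set E) →* Spor.He} {σ : Spor.He}

theorem Fr.he_top (F : Fr q t 7 a k σ) : c1 (q a) ≤ 564480 := by
  have := finHe
  have h1 := le_of_dvd_le F.top (by norm_num) Nat.card_pos (he_le (c := 161280) F.τ_ord (by decide +kernel)) le_rfl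
  omega

theorem Fr.he_three (F : Fr q t 7 a k σ) {y : B} (hy : orderOf y = 3) (hc : y * q a = q a * y) :
    c2 (q a) y ≤ 252 := by
  have := finHe
  obtain ⟨s, h1, h2⟩ := F.odd_case Nat.prime_three (by decide) (by norm_num) hy hc
  have h3 := le_of_dvd_le h2 (by norm_num) Nat.card_pos (he_le (c := 72) h1 (by decide +kernel)) le_rfl
  omega

theorem Fr.he_five (F : Fr q t 7 a k σ) {y : B} (hy : orderOf y = 5) (hc : y * q a = q a * y) :
    c2 (q a) y ≤ 70 := by
  have := finHe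
  obtain ⟨s, h1, h2⟩ := F.odd_case Nat.prime_five (by decide) (by norm_num) hy hc
  have h3 := le_of_dvd_le h2 (by norm_num) Nat.card_pos (he_le (c := 20) h1 (by decide +kernel)) le_rfl
  omega

theorem Fr.he_four (F : Fr q t 7 a k σ) {y : B} (hy : orderOf y = 2) (hs : Sq q t y)
    (hc : y * q a = q a * y) : c2 (q a) y ≤ 4704 := by
  have := finHe
  obtain ⟨s, h1, -, h3⟩ := F.sq_case (m := 1) one_pos (by norm_num) hy (by rwa [pow_one]) hc
  exact le_of_dvd_le h3 (by norm_num) Nat.card_pos (he_le (c := 672) h1 (by decide +kernel)) le_rfl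

theorem Fr.he_twelve (F : Fr q t 7 a k σ) {y : B} (hy : orderOf y = 6) (hs : Sq q t (y ^ 3))
    (hc : y * q a = q a * y) : c2 (q a) y ≤ 84 := by
  have := finHe
  obtain ⟨s, h1, -, h3⟩ := F.sq_case (m := 3) three_pos (by norm_num) hy hs hc
  exact le_of_dvd_le h3 (by norm_num) Nat.card_pos (he_le (c := 12) h1 (by decide +kernel)) le_rfl

open TwoACent Lv in
theorem he_v {s : Spor.He} (hs : s * gn .a = gn .a * s) : s * v * s⁻¹ = v ∨ s * v * s⁻¹ = v * gn .a := by
  rcases mem_C.1 (mem_C_of_comm hs) with h | h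
  · exact Or.inl (by rw [L_comm_v h, mul_inv_cancel_right])
  · right
    have h1 : TwoACent.s * v * TwoACent.s⁻¹ = gn .a * v := by rw [← s_conj_v, inv_mul_cancel_right]
    have h2 : s = s * TwoACent.s * TwoACent.s := by rw [mul_assoc, s_mul_self, mul_one]
    generalize s * TwoACent.s = l at h h2
    rw [h2]
    calc l * TwoACent.s * v * (l * TwoACent.s)⁻¹ = l * (TwoACent.s * v * TwoACent.s⁻¹) * l⁻¹ := by group
      _ = v * gn .a := by
        rw [h1, ← mul_assoc, L_comm_a h, mul_assoc (gn _), L_comm_v h, ← mul_assoc, mul_inv_cancel_right,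
          L_comm_v a_mem_L]

open TwoACent Lv in
/-- **the central involution** -/
theorem Fr.he_central (F : Fr q t 7 a k σ) (h5 : 5 ∣ c1 (q a)) :
    ∃ w : B, orderOf w = 2 ∧ ∀ y, y * q a = q a * y → y * w = w * y := by
  rcases Classes.two_classes_a F.τ_sq F.τ_ne with ⟨g, hg⟩ | ⟨g, hg⟩
  · have h1 := (h5.trans (Dvd.intro_left 2 rfl)).trans F.top
    rw [← c1_conj (isConj_iff.2 ⟨g, hg⟩), c1, Classes.card_centralizer] at h1
    norm_num at h1
  · have hg' : g * gn .a * g⁻¹ = σ := hg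
    refine F.central (v := g * v * g⁻¹) ?_ ?_ ?_ ?_ fun s hs => ?_
    · rw [conj_mul, v_mul_self, mul_one, mul_inv_cancel]
    · exact fun h => v_ne_one (by simpa using h)
    · rw [← hg']
      exact fun h => v_ne_a (mul_left_cancel (mul_right_cancel h))
    · rw [← hg', conj_mul, conj_mul, L_comm_v a_mem_L]
    · have h1 : g⁻¹ * s * g * gn .a = gn .a * (g⁻¹ * s * g) := by
        calc g⁻¹ * s * g * gn .a = g⁻¹ * (s * (g * gn .a * g⁻¹)) * g := by group
          _ = g⁻¹ * (g * gn .a * g⁻¹ * s) * g := by rw [hg', hs]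
          _ = _ := by group
      have h2 : s * (g * v * g⁻¹) * s⁻¹ = g * (g⁻¹ * s * g * v * (g⁻¹ * s * g)⁻¹) * g⁻¹ := by group
      rw [h2, ← hg']
      rcases he_v h1 with h | h
      · exact Or.inl (by rw [h])
      · exact Or.inr (by rw [h]; group)

end He

end Cfsg.Agent.TAB.B.D
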