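import Cfsg.Agent.TAB.B.D.WC

/-!
# Orbits in the section of the class 5B (helper14, TAB)
-/

set_option autoImplicit false
set_option maxRecDepth 100000
set_option Elab.async false

namespace Cfsg.Agent.TAB.B.D

open Cfsg.Agent.BabyM.Conc Cfsg.Agent.H819.U33 Cfsg.Agent.BMx.Fast Cfsg.Agent.TAB.B.Tr

/-- words -/
def T20G : List (List Ltr) :=
  [[], [.z], [.Z10, .Z9, .Z7, .Z3, .Z2, .X10, .X9, .X8, .X7, .X4], [.Z8, .Z6, .Z4, .Z3, .Z1, .X9, .X4, .X3, .X2, .X1,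
  .X0], [.z, .Z10, .Z9, .Z7, .Z3, .Z2, .X10, .X9, .X8, .X7, .X4], [.z, .Z8, .Z6, .Z4, .Z3, .Z1, .X9, .X4, .X3, .X2,
  .X1, .X0], [.Z10, .Z9, .Z8, .Z7, .Z6, .Z4, .Z2, .Z1, .X10, .X8, .X7, .X3, .X2, .X1, .X0], [.z, .Z10, .Z9, .Z8, .Z7,
  .Z6, .Z4, .Z2, .Z1, .X10, .X8, .X7, .X3, .X2, .X1, .X0], [.Z8, .Z2, .Z0, .X10, .X9, .X7, .X5, .X3, .X0, .y5, .y4,
  .y2, .p7, .hi, .p7, .hi, .p5, .hi, .p3, .hi, .p8, .xii, .p3, .hi, .xii, .p10, .y7, .taui, .xii, .p, .xii, .y1, .hi,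
  .xii, .y5, .y10, .taui, .xii, .y2, .hi, .p8, .xii, .y10, .p8, .xii, .y7, .p4, .xii, .taui, .xii, .p7, .xii, .y2,
  .p5, .xii, .tau, .xii, .p], [.z, .Z8, .Z2, .Z0, .X10, .X9, .X7, .X5, .X3, .X0, .y5, .y4, .y2, .p7, .hi, .p7, .hi,
  .p5, .hi, .p3, .hi, .p8, .xii, .p3, .hi, .xii, .p10, .y7, .taui, .xii, .p, .xii, .y1, .hi, .xii, .y5, .y10, .taui,
  .xii, .y2, .hi, .p8, .xii, .y10, .p8, .xii, .y7, .p4, .xii, .taui, .xii, .p7, .xii, .y2, .p5, .xii, .tau, .xii,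
  .p], [.Z10, .Z7, .Z4, .X3, .X2, .X0, .y8, .y7, .y5, .y3, .y2, .hi, .p9, .hi, .p5, .hi, .p3, .hi, .p, .hi, .p8, .hi,
  .xii, .y2, .p, .hi, .xii, .y5, .p3, .tau, .xii, .y1, .p, .xii, .p, .xii, .y2, .y3, .tau, .y1, .xii, .y1, .p5, .xii,
  .p8, .xii, .y9, .tau, .xii, .p7, .xii, .y1, .p7, .xii, .taui, .xii, .y2, .hi, .p9], [.Z5, .Z4, .Z3, .X10, .X9, .X7,
  .X4, .X3, .X0, .y9, .y6, .y4, .p3, .hi, .p7, .hi, .p7, .hi, .p8, .hi, .p, .hi, .p3, .xii, .p, .xii, .y6, .p3, .hi,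
  .taui, .xii, .y6, .p, .xii, .p, .xii, .y7, .taui, .xii, .p10, .hi, .p2, .hi, .p4, .xii, .y3, .p, .xii, .taui, .xii,
  .p2, .xii, .hi, .xii, .y5, .taui, .xii, .p8, .xii, .y9], [.Z6, .Z3, .Z2, .X4, .X1, .X0, .y6, .y4, .p7, .hi, .p4,
  .hi, .p5, .hi, .p10, .hi, .p3, .hi, .p2, .hi, .xii, .p, .xii, .y6, .y10, .taui, .xii, .p, .xii, .y1, .y6, .hi,
  .xii, .y6, .taui, .xii, .p, .xii, .y1, .hi, .xii, .y5, .y8, .p10, .xii, .p9, .xii, .y5, .tau, .xii, .p7, .xii, .y2,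
  .p7, .xii, .y3, .y4, .taui, .xii, .p], [.z, .Z10, .Z7, .Z4, .X3, .X2, .X0, .y8, .y7, .y5, .y3, .y2, .hi, .p9, .hi,
  .p5, .hi, .p3, .hi, .p, .hi, .p8, .hi, .xii, .y2, .p, .hi, .xii, .y5, .p3, .tau, .xii, .y1, .p, .xii, .p, .xii,
  .y2, .y3, .tau, .y1, .xii, .y1, .p5, .xii, .p8, .xii, .y9, .tau, .xii, .p7, .xii, .y1, .p7, .xii, .taui, .xii, .y2,
  .hi, .p9], [.Z10, .Z8, .Z7, .Z5, .Z1, .X4, .X3, .y10, .y9, .y7, .y1, .hi, .p4, .hi, .p7, .hi, .p4, .hi, .p8, .hi,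
  .p10, .xii, .p10, .xii, .y6, .p8, .xii, .tau, .xii, .p, .xii, .y1, .hi, .xii, .y5, .taui, .xii, .p, .xii, .hi, .y8,
  .xii, .y1, .y9, .taui, .p5, .xii, .p10, .xii, .tau, .xii, .p2, .xii, .p2, .xii, .y2, .y7, .taui, .xii, .p4], [.z,
  .Z10, .Z9, .Z7, .Z4, .X10, .X6, .X4, .X3, .X1, .y10, .y5, .y3, .hi, .p4, .hi, .p3, .hi, .p4, .hi, .p3, .hi, .p,
  .xii, .p2, .hi, .xii, .taui, .y1, .xii, .y2, .hi, .xii, .p10, .xii, .y4, .y8, .taui, .xii, .y1, .p, .xii, .y10, .p,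
  .xii, .y6, .p9, .xii, .y6, .p2, .xii, .tau, .xii, .p6, .xii, .p6, .xii, .y5, .tau, .xii, .p7], [.z, .Z10, .Z8, .Z7,
  .Z5, .Z1, .X4, .X3, .y10, .y9, .y7, .y1, .hi, .p4, .hi, .p7, .hi, .p4, .hi, .p8, .hi, .p10, .xii, .p10, .xii, .y6,
  .p8, .xii, .tau, .xii, .p, .xii, .y1, .hi, .xii, .y5, .taui, .xii, .p, .xii, .hi, .y8, .xii, .y1, .y9, .taui, .p5,
  .xii, .p10, .xii, .tau, .xii, .p2, .xii, .p2, .xii, .y2, .y7, .taui, .xii, .p4], [.z, .Z5, .Z4, .Z3, .X10, .X9,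
  .X7, .X4, .X3, .X0, .y9, .y6, .y4, .p3, .hi, .p7, .hi, .p7, .hi, .p8, .hi, .p, .hi, .p3, .xii, .p, .xii, .y6, .p3,
  .hi, .taui, .xii, .y6, .p, .xii, .p, .xii, .y7, .taui, .xii, .p10, .hi, .p2, .hi, .p4, .xii, .y3, .p, .xii, .taui,
  .xii, .p2, .xii, .hi, .xii, .y5, .taui, .xii, .p8, .xii, .y9], [.Z10, .Z3, .Z2, .Z0, .X8, .X5, .X4, .X2, .y10, .y5,
  .y2, .p10, .hi, .p6, .hi, .p3, .hi, .p10, .xii, .p, .xii, .y4, .p8, .xii, .y5, .tau, .xii, .p, .xii, .y3, .hi,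
  .xii, .y5, .y10, .taui, .xii, .p, .xii, .y2, .hi, .xii, .y4, .y5, .tau, .p10, .xii, .p9, .xii, .y5, .tau, .xii,
  .y2, .p9, .xii, .y2, .p3, .xii, .y4, .tau, .xii, .hi, .p2], [.Z10, .Z8, .Z7, .Z1, .X10, .X4, .X2, .X1, .X0, .y7,
  .y4, .y2, .p9, .hi, .p10, .hi, .p8, .hi, .p, .hi, .xii, .p10, .xii, .y1, .p4, .hi, .tau, .xii, .p, .xii, .y4, .hi,
  .xii, .y4, .y5, .tau, .xii, .y6, .p, .xii, .p, .xii, .y1, .y2, .y4, .X0, .p9, .xii, .y10, .p10, .xii, .y6, .tau,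
  .xii, .y2, .p4, .xii, .p5, .y4, .xii, .tau, .xii, .p]]

theorem com20G : comA w10F T20G = true := by decide +kernel

theorem orb20G : orbA w4E T20G [] = true := by decide +kernel

/-- words -/
def T30F : List (List Ltr) :=
  [[], [.Z10, .Z9, .Z7, .Z3, .Z2, .X10, .X9, .X8, .X7, .X4], [.Z8, .Z6, .Z4, .Z3, .Z1, .X9, .X4, .X3, .X2, .X1, .X0],
  [.Z10, .Z9, .Z8, .Z7, .Z6, .Z4, .Z2, .Z1, .X10, .X8, .X7, .X3, .X2, .X1, .X0], [.Z7, .Z6, .Z1, .X7, .X6, .X5, .y10,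
  .y7, .y5, .y4, .p9, .hi, .p3, .hi, .p10, .hi, .p4, .hi, .p5, .hi, .xii, .p5, .hi, .p8, .hi, .X0, .y1, .p9, .xii,
  .p, .hi], [.Z10, .Z6, .Z4, .Z2, .Z0, .X9, .X7, .X3, .y5, .y4, .y2, .y1, .p3, .hi, .p6, .hi, .p6, .hi, .p6, .hi,
  .p4, .hi, .p9, .xii, .p10, .hi, .p6, .xii, .y2, .p10, .hi], [.Z9, .Z6, .Z5, .Z3, .X8, .X5, .X3, .X2, .y8, .y5, .y4,
  .y1, .p8, .hi, .p9, .hi, .p6, .hi, .p7, .hi, .p3, .xii, .p, .xii, .hi, .p10, .y8, .p9, .xii, .p, .xii], [.Z9, .Z5,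
  .Z0, .X6, .X3, .y10, .y4, .y3, .y2, .y1, .p4, .hi, .p3, .hi, .p3, .hi, .p9, .hi, .p8, .hi, .p10, .xii, .p10, .xii,
  .p6, .xii, .y4, .y6, .p9, .xii, .hi, .p5], [.Z10, .Z7, .Z6, .Z4, .Z3, .Z2, .X10, .X9, .X4, .p6, .hi, .p, .hi, .p3,
  .hi, .p6, .hi, .p3, .xii, .hi, .p8, .xii, .y9, .y10, .p2, .X0, .p9, .xii, .y2, .p3, .xii, .y3], [.Z10, .Z9, .Z5,
  .X10, .X9, .X6, .X1, .y6, .p10, .hi, .p10, .hi, .p10, .hi, .p8, .hi, .p3, .hi, .p2, .hi, .xii, .p2, .hi, .xii, .y4,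
  .y5, .p, .xii, .y3, .p10, .xii, .y8], [.Z10, .Z9, .Z1, .X10, .X8, .X7, .X6, .X4, .y10, .y9, .p10, .hi, .p10, .hi,
  .p4, .hi, .p7, .hi, .p3, .hi, .p, .hi, .p7, .xii, .p2, .hi, .xii, .X0, .p5, .xii, .y5, .p10, .xii], [.Z9, .Z2, .Z1,
  .X10, .X8, .X5, .X2, .X1, .y10, .y9, .y6, .y4, .y3, .y1, .p7, .hi, .p6, .hi, .p5, .hi, .p4, .hi, .p10, .xii, .p,
  .xii, .y6, .p3, .hi, .X0, .p9, .xii, .y4], [.Z8, .Z2, .X8, .X6, .X4, .y10, .y8, .y5, .y3, .y2, .y1, .p2, .hi, .p3,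
  .hi, .p6, .hi, .p, .hi, .p4, .hi, .p3, .xii, .p10, .xii, .y8, .p10, .xii, .y8, .p4, .xii, .y4, .hi], [.Z9, .Z8,
  .Z7, .Z3, .Z2, .Z1, .X10, .X8, .X6, .y3, .hi, .p7, .hi, .p6, .hi, .p, .hi, .p7, .hi, .p2, .hi, .xii, .p, .xii, .p2,
  .hi, .p5, .y1, .p10, .xii, .p5, .xii, .y2], [.Z10, .Z5, .Z4, .Z3, .Z1, .Z0, .X9, .X5, .X3, .X0, .y10, .y9, .p10,
  .hi, .p10, .hi, .p4, .hi, .p7, .hi, .p3, .hi, .p, .hi, .p7, .xii, .p2, .hi, .xii, .p5, .xii, .y5, .p10, .xii],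
  [.Z6, .Z4, .Z1, .Z0, .X10, .X9, .X6, .X4, .X2, .X1, .X0, .y10, .y6, .y5, .y3, .y2, .p9, .hi, .p4, .hi, .p3, .hi,
  .p7, .hi, .p8, .xii, .y2, .p, .xii, .p, .xii, .y1, .p8, .xii, .y1], [.Z8, .Z2, .X10, .X7, .X2, .y10, .y4, .y2, .p2,
  .hi, .p3, .hi, .p5, .hi, .p7, .hi, .p9, .xii, .p10, .xii, .p6, .xii, .y7, .taui, .y1, .xii, .y2, .hi, .xii, .p10,
  .xii, .y4, .tau, .y1, .xii, .p10, .xii, .y4, .p10, .xii, .tau, .p2, .xii, .p9, .xii, .y9, .taui, .xii, .p6, .xii,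
  .y3, .p2, .xii, .y9, .taui, .xii, .p10, .xii], [.Z8, .Z2, .Z0, .X10, .X9, .X7, .X5, .X3, .X0, .y5, .y4, .y2, .p7,
  .hi, .p7, .hi, .p5, .hi, .p3, .hi, .p8, .xii, .p3, .hi, .xii, .p10, .y7, .taui, .xii, .p, .xii, .y1, .hi, .xii,
  .y5, .y10, .taui, .xii, .y2, .hi, .p8, .xii, .y10, .p8, .xii, .y7, .p4, .xii, .taui, .xii, .p7, .xii, .y2, .p5,
  .xii, .tau, .xii, .p], [.Z10, .Z7, .Z4, .X3, .X2, .X0, .y8, .y7, .y5, .y3, .y2, .hi, .p9, .hi, .p5, .hi, .p3, .hi,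
  .p, .hi, .p8, .hi, .xii, .y2, .p, .hi, .xii, .y5, .p3, .tau, .xii, .y1, .p, .xii, .p, .xii, .y2, .y3, .tau, .y1,
  .xii, .y1, .p5, .xii, .p8, .xii, .y9, .tau, .xii, .p7, .xii, .y1, .p7, .xii, .taui, .xii, .y2, .hi, .p9], [.Z8,
  .Z5, .Z4, .Z3, .Z2, .Z1, .X10, .X5, .X0, .y7, .y3, .hi, .p3, .hi, .p3, .hi, .p, .hi, .p8, .hi, .p5, .xii, .p2, .hi,
  .xii, .tau, .xii, .p, .xii, .y4, .hi, .xii, .y6, .y10, .taui, .xii, .y6, .p3, .hi, .xii, .y1, .p10, .y1, .p9, .xii,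
  .p10, .xii, .y5, .tau, .xii, .p4, .xii, .y2, .p9, .xii, .y9, .taui, .xii, .p3], [.Z5, .Z4, .Z3, .X10, .X9, .X7,
  .X4, .X3, .X0, .y9, .y6, .y4, .p3, .hi, .p7, .hi, .p7, .hi, .p8, .hi, .p, .hi, .p3, .xii, .p, .xii, .y6, .p3, .hi,
  .taui, .xii, .y6, .p, .xii, .p, .xii, .y7, .taui, .xii, .p10, .hi, .p2, .hi, .p4, .xii, .y3, .p, .xii, .taui, .xii,
  .p2, .xii, .hi, .xii, .y5, .taui, .xii, .p8, .xii, .y9], [.Z9, .Z5, .Z4, .Z2, .Z1, .Z0, .X8, .X5, .X2, .X1, .y8,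
  .y7, .y6, .y3, .p6, .hi, .p6, .hi, .p4, .hi, .p3, .hi, .p8, .xii, .p, .xii, .y3, .tau, .X0, .xii, .p3, .xii, .hi,
  .xii, .p8, .tau, .y1, .xii, .p10, .xii, .y5, .p10, .xii, .p9, .xii, .hi, .xii, .y9, .taui, .xii, .p7, .xii, .y1,
  .p10, .xii, .y6, .tau, .xii, .p5, .xii], [.Z6, .Z3, .Z2, .X4, .X1, .X0, .y6, .y4, .p7, .hi, .p4, .hi, .p5, .hi,
  .p10, .hi, .p3, .hi, .p2, .hi, .xii, .p, .xii, .y6, .y10, .taui, .xii, .p, .xii, .y1, .y6, .hi, .xii, .y6, .taui,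
  .xii, .p, .xii, .y1, .hi, .xii, .y5, .y8, .p10, .xii, .p9, .xii, .y5, .tau, .xii, .p7, .xii, .y2, .p7, .xii, .y3,
  .y4, .taui, .xii, .p], [.Z10, .Z9, .Z7, .Z4, .X10, .X6, .X4, .X3, .X1, .y10, .y5, .y3, .hi, .p4, .hi, .p3, .hi,
  .p4, .hi, .p3, .hi, .p, .xii, .p2, .hi, .xii, .taui, .y1, .xii, .y2, .hi, .xii, .p10, .xii, .y4, .y8, .taui, .xii,
  .y1, .p, .xii, .y10, .p, .xii, .y6, .p9, .xii, .y6, .p2, .xii, .tau, .xii, .p6, .xii, .p6, .xii, .y5, .tau, .xii,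
  .p7], [.Z9, .Z8, .Z6, .Z5, .Z1, .X9, .X3, .y10, .y6, .y1, .hi, .p4, .hi, .p, .hi, .p, .hi, .p8, .hi, .p6, .hi,
  .xii, .p10, .xii, .taui, .y1, .xii, .p10, .xii, .y5, .p10, .xii, .y2, .y10, .tau, .xii, .y6, .hi, .p8, .xii, .y2,
  .p5, .xii, .p5, .xii, .y6, .tau, .xii, .p5, .xii, .y8, .y9, .p5, .xii, .y1, .tau, .xii, .y2, .hi, .p4], [.Z10, .Z8,
  .Z7, .Z5, .Z1, .X4, .X3, .y10, .y9, .y7, .y1, .hi, .p4, .hi, .p7, .hi, .p4, .hi, .p8, .hi, .p10, .xii, .p10, .xii,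
  .y6, .p8, .xii, .tau, .xii, .p, .xii, .y1, .hi, .xii, .y5, .taui, .xii, .p, .xii, .hi, .y8, .xii, .y1, .y9, .taui,
  .p5, .xii, .p10, .xii, .tau, .xii, .p2, .xii, .p2, .xii, .y2, .y7, .taui, .xii, .p4], [.Z8, .Z6, .Z2, .Z1, .X8,
  .X7, .X6, .X4, .X2, .X0, .y10, .y5, .y3, .hi, .p4, .hi, .p3, .hi, .p4, .hi, .p3, .hi, .p, .xii, .p2, .hi, .xii,
  .taui, .y1, .xii, .y2, .hi, .xii, .p10, .xii, .y4, .y8, .taui, .xii, .y1, .p, .xii, .y10, .p, .xii, .y6, .p9, .xii,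
  .y6, .p2, .xii, .tau, .xii, .p6, .xii, .p6, .xii, .y5, .tau, .xii, .p7], [.Z10, .Z9, .Z4, .Z2, .Z1, .Z0, .X9, .X5,
  .X3, .X0, .y5, .y4, .y3, .y2, .y1, .hi, .p7, .hi, .p9, .hi, .p6, .hi, .p, .xii, .p, .hi, .xii, .y5, .taui, .y1,
  .xii, .p10, .xii, .y1, .p10, .xii, .y2, .taui, .y1, .xii, .y2, .p2, .hi, .xii, .X0, .p10, .xii, .p2, .xii, .taui,
  .xii, .p9, .xii, .y3, .y7, .p, .xii, .y8, .tau, .xii, .p], [.Z9, .Z8, .Z6, .Z3, .Z2, .Z1, .X10, .X1, .y10, .y9,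
  .y8, .y4, .p10, .hi, .p5, .hi, .p4, .hi, .p8, .hi, .p9, .hi, .p8, .xii, .y2, .p3, .hi, .xii, .taui, .y1, .xii, .y2,
  .hi, .xii, .y9, .p10, .xii, .y10, .tau, .y1, .xii, .y1, .hi, .p8, .hi, .xii, .y7, .p10, .xii, .y7, .taui, .xii,
  .y2, .p4, .xii, .p4, .xii, .y2, .tau, .xii, .p], [.Z10, .Z9, .Z7, .Z6, .Z4, .Z1, .Z0, .X9, .X8, .X5, .X2, .X1, .y5,
  .y4, .y2, .p7, .hi, .p7, .hi, .p5, .hi, .p3, .hi, .p8, .xii, .p3, .hi, .xii, .p10, .y7, .taui, .xii, .p, .xii, .y1,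
  .hi, .xii, .y5, .y10, .taui, .xii, .y2, .hi, .p8, .xii, .y10, .p8, .xii, .y7, .p4, .xii, .taui, .xii, .p7, .xii,
  .y2, .p5, .xii, .tau, .xii, .p], [.Z6, .Z5, .Z3, .X5, .X1, .y9, .y4, .y2, .y1, .p8, .hi, .p, .hi, .p8, .hi, .p,
  .hi, .p7, .xii, .p, .xii, .p8, .y8, .xii, .y7, .taui, .xii, .p, .xii, .y4, .hi, .xii, .y4, .y5, .taui, .xii, .p,
  .xii, .y4, .hi, .xii, .y6, .taui, .X0, .p9, .xii, .y9, .hi, .xii, .y2, .taui, .xii, .p4, .xii, .y2, .p5, .xii, .y3,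
  .taui, .xii, .p4], [.Z10, .Z9, .Z1, .Z0, .X4, .X0, .y7, .y5, .y1, .hi, .p5, .hi, .p8, .hi, .p10, .hi, .p3, .hi,
  .p10, .xii, .hi, .p8, .xii, .y4, .y7, .p10, .taui, .xii, .p, .xii, .y2, .hi, .xii, .y2, .y7, .taui, .xii, .y6, .p,
  .xii, .p, .y7, .xii, .y3, .X0, .p6, .xii, .p2, .xii, .taui, .xii, .p4, .xii, .y1, .p10, .xii, .y10, .tau, .xii,
  .y2, .p4], [.Z9, .Z8, .Z7, .Z6, .Z5, .Z3, .Z2, .Z0, .X5, .X3, .X2, .y10, .y9, .y8, .y7, .y6, .p8, .hi, .p5, .hi,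
  .p5, .hi, .p3, .hi, .p7, .xii, .p10, .xii, .y9, .tau, .xii, .p, .xii, .y4, .hi, .xii, .y6, .y10, .tau, .xii, .y2,
  .hi, .p4, .hi, .p7, .xii, .p9, .xii, .y6, .tau, .xii, .p4, .xii, .y1, .p8, .y2, .xii, .y7, .taui, .xii, .y2],
  [.Z10, .Z9, .Z3, .Z2, .X6, .X4, .y5, .y2, .p6, .hi, .p6, .hi, .p8, .hi, .p, .hi, .p2, .hi, .xii, .p, .xii, .y3,
  .y4, .hi, .p8, .taui, .y1, .xii, .p10, .xii, .y8, .p10, .xii, .y1, .y6, .taui, .xii, .y1, .p3, .hi, .xii, .y2, .p2,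
  .hi, .X0, .p4, .xii, .p4, .xii, .y4, .taui, .xii, .p5, .xii, .y7, .p, .xii, .y5, .taui, .xii, .hi, .xii], [.Z8,
  .Z7, .Z5, .Z3, .Z1, .X8, .X6, .X3, .X0, .y4, .y2, .y1, .p2, .hi, .p3, .hi, .p7, .hi, .p7, .hi, .p9, .xii, .p, .xii,
  .y3, .y4, .tau, .y1, .xii, .p10, .xii, .y4, .p10, .xii, .tau, .xii, .y6, .p, .xii, .y2, .p, .xii, .y3, .X0, .y1,
  .p7, .xii, .p7, .xii, .y7, .tau, .xii, .p4, .xii, .y1, .p10, .xii, .y10, .tau, .xii, .y2, .p4], [.Z9, .Z8, .Z3,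
  .Z2, .X10, .X9, .X3, .y7, .y3, .y2, .y1, .p8, .hi, .p6, .hi, .p, .hi, .p6, .hi, .p7, .hi, .p7, .xii, .y2, .p, .hi,
  .xii, .p3, .tau, .xii, .p, .xii, .hi, .y8, .xii, .y1, .y10, .tau, .xii, .hi, .p8, .xii, .y4, .p9, .xii, .y7, .p3,
  .xii, .taui, .xii, .p5, .xii, .y8, .y9, .p5, .xii, .y1, .tau, .xii, .y2, .hi, .p4], [.Z10, .Z9, .Z7, .Z6, .Z5, .Z3,
  .X8, .X7, .X5, .X3, .X2, .X1, .y7, .y3, .hi, .p3, .hi, .p3, .hi, .p, .hi, .p8, .hi, .p5, .xii, .p2, .hi, .xii,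
  .tau, .xii, .p, .xii, .y4, .hi, .xii, .y6, .y10, .taui, .xii, .y6, .p3, .hi, .xii, .y1, .p10, .y1, .p9, .xii, .p10,
  .xii, .y5, .tau, .xii, .p4, .xii, .y2, .p9, .xii, .y9, .taui, .xii, .p3], [.Z9, .Z8, .Z2, .X7, .X6, .y10, .y9, .y2,
  .y1, .hi, .p5, .hi, .p7, .hi, .p8, .hi, .p8, .xii, .p10, .xii, .y5, .p2, .xii, .y6, .taui, .xii, .p, .xii, .y1,
  .hi, .xii, .y3, .y8, .taui, .xii, .y6, .p, .xii, .y2, .p, .xii, .y6, .tau, .X0, .p10, .xii, .y10, .p6, .xii, .tau,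
  .xii, .y2, .p7, .xii, .y6, .p8, .xii, .y2, .tau, .xii, .p7, .xii], [.Z8, .Z7, .Z6, .Z0, .X10, .X9, .X8, .X7, .X5,
  .X2, .X1, .y5, .y4, .y3, .y2, .y1, .hi, .p7, .hi, .p9, .hi, .p6, .hi, .p, .xii, .p, .hi, .xii, .y5, .taui, .y1,
  .xii, .p10, .xii, .y1, .p10, .xii, .y2, .taui, .y1, .xii, .y2, .p2, .hi, .xii, .X0, .p10, .xii, .p2, .xii, .taui,
  .xii, .p9, .xii, .y3, .y7, .p, .xii, .y8, .tau, .xii, .p], [.Z10, .Z3, .Z2, .Z0, .X8, .X5, .X4, .X2, .y10, .y5,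
  .y2, .p10, .hi, .p6, .hi, .p3, .hi, .p10, .xii, .p, .xii, .y4, .p8, .xii, .y5, .tau, .xii, .p, .xii, .y3, .hi,
  .xii, .y5, .y10, .taui, .xii, .p, .xii, .y2, .hi, .xii, .y4, .y5, .tau, .p10, .xii, .p9, .xii, .y5, .tau, .xii,
  .y2, .p9, .xii, .y2, .p3, .xii, .y4, .tau, .xii, .hi, .p2], [.Z9, .Z5, .Z0, .X10, .X8, .X4, .X3, .X1, .X0, .y10,
  .y8, .y7, .y5, .y4, .y3, .p6, .hi, .p, .hi, .p, .hi, .p4, .xii, .p, .xii, .y6, .tau, .xii, .y1, .p, .xii, .p, .xii,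
  .y2, .y5, .tau, .y1, .xii, .p10, .xii, .y1, .y7, .p10, .xii, .y4, .X0, .p3, .xii, .p10, .xii, .taui, .xii, .p5,
  .xii, .y4, .y5, .p9, .xii, .y7, .tau, .xii, .p7], [.Z9, .Z0, .X10, .X6, .X5, .X1, .X0, .y9, .y8, .y3, .p10, .hi,
  .p8, .hi, .p4, .hi, .p4, .hi, .p5, .hi, .p2, .xii, .p, .xii, .y3, .p7, .taui, .y1, .xii, .p10, .xii, .y5, .p10,
  .xii, .y4, .tau, .y1, .xii, .p10, .xii, .y5, .p10, .xii, .y9, .tau, .X0, .p6, .xii, .p6, .xii, .y7, .taui, .xii,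
  .p7, .xii, .p3, .xii, .y4, .y7, .taui, .xii, .p5], [.Z10, .Z7, .Z1, .Z0, .X7, .X3, .y10, .y9, .y6, .y4, .y1, .p8,
  .hi, .p7, .hi, .p8, .hi, .p, .xii, .y2, .p, .xii, .hi, .p4, .y3, .taui, .xii, .y1, .p, .xii, .p, .y7, .xii, .y6,
  .taui, .xii, .y1, .p, .xii, .y10, .p, .xii, .y4, .y5, .X0, .p3, .xii, .p2, .xii, .y5, .taui, .xii, .y2, .p7, .xii,
  .p5, .y10, .xii, .taui, .xii, .hi, .xii], [.Z8, .Z4, .Z3, .Z1, .X8, .X6, .X3, .X1, .X0, .y10, .y7, .y3, .y2, .y1,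
  .hi, .p8, .hi, .p7, .hi, .p10, .hi, .p, .hi, .p2, .xii, .y2, .p, .xii, .y1, .tau, .xii, .y1, .p, .xii, .p, .xii,
  .y4, .y7, .taui, .xii, .p, .xii, .y1, .hi, .xii, .y5, .tau, .p10, .xii, .y4, .p8, .xii, .tau, .xii, .p8, .xii, .p2,
  .xii, .y10, .taui, .xii, .p6], [.Z9, .Z8, .Z7, .Z4, .Z3, .Z0, .X10, .X7, .X3, .X0, .y9, .y5, .y3, .y2, .p10, .hi,
  .p3, .hi, .p3, .hi, .p6, .hi, .p3, .hi, .p9, .xii, .hi, .p8, .xii, .y1, .p2, .taui, .y1, .xii, .p10, .xii, .y5,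
  .p10, .xii, .taui, .xii, .y1, .p3, .hi, .xii, .y1, .p10, .X0, .p10, .xii, .p9, .xii, .y8, .taui, .xii, .p6, .xii,
  .p6, .xii, .y5, .tau, .xii, .p7], [.Z6, .X10, .X9, .X2, .y6, .y5, .y1, .hi, .p5, .hi, .p, .hi, .p3, .hi, .p10, .hi,
  .p8, .hi, .xii, .p, .xii, .p2, .hi, .p5, .tau, .xii, .y6, .p, .xii, .y4, .p, .xii, .y1, .y10, .taui, .xii, .p,
  .xii, .y2, .hi, .xii, .y7, .y10, .taui, .p5, .xii, .y2, .y8, .p, .xii, .tau, .xii, .p9, .xii, .y8, .p5, .xii, .y5,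
  .y8, .taui, .xii, .y2, .p7], [.Z10, .Z6, .X9, .X5, .y6, .y3, .hi, .p8, .hi, .p5, .hi, .p, .hi, .p8, .hi, .p9, .xii,
  .p10, .xii, .p9, .xii, .y5, .tau, .y1, .xii, .p10, .xii, .y8, .p10, .xii, .y1, .y5, .taui, .y1, .xii, .y6, .p10,
  .xii, .y8, .p10, .xii, .y2, .y4, .X0, .y1, .p8, .xii, .p10, .xii, .y4, .taui, .xii, .p7, .xii, .y5, .y9, .y10, .p9,
  .xii, .y5, .tau, .xii, .hi], [.Z10, .Z8, .Z7, .Z6, .Z3, .X8, .X6, .X3, .y5, .p4, .hi, .p5, .hi, .p8, .hi, .p10,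
  .hi, .p9, .hi, .p8, .xii, .p2, .hi, .xii, .y5, .y9, .p3, .tau, .xii, .y2, .p, .xii, .y2, .hi, .xii, .y7, .taui,
  .xii, .y1, .p, .xii, .y2, .p, .xii, .y1, .p6, .xii, .p6, .xii, .taui, .xii, .p4, .xii, .y8, .y10, .p5, .xii, .y1,
  .tau, .xii, .y2, .p5, .hi], [.Z10, .Z8, .Z7, .Z1, .X10, .X4, .X2, .X1, .X0, .y7, .y4, .y2, .p9, .hi, .p10, .hi,
  .p8, .hi, .p, .hi, .xii, .p10, .xii, .y1, .p4, .hi, .tau, .xii, .p, .xii, .y4, .hi, .xii, .y4, .y5, .tau, .xii,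
  .y6, .p, .xii, .p, .xii, .y1, .y2, .y4, .X0, .p9, .xii, .y10, .p10, .xii, .y6, .tau, .xii, .y2, .p4, .xii, .p5,
  .y4, .xii, .tau, .xii, .p], [.Z4, .Z3, .X9, .X7, .X6, .X5, .X4, .X2, .X1, .y10, .y9, .y4, .p2, .hi, .p10, .hi, .p5,
  .hi, .p, .hi, .p8, .xii, .p3, .hi, .xii, .y8, .tau, .y1, .xii, .p10, .xii, .y8, .p10, .xii, .tau, .xii, .p, .xii,
  .y1, .y10, .hi, .xii, .y4, .y5, .taui, .p10, .xii, .p2, .xii, .y1, .tau, .xii, .p9, .xii, .y3, .y9, .p3, .xii, .y5,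
  .y8, .taui, .xii, .p4], [.Z9, .Z8, .Z7, .Z0, .X10, .X8, .X7, .X6, .X5, .y6, .y5, .p9, .hi, .p5, .hi, .p, .xii, .hi,
  .xii, .p10, .xii, .y3, .y7, .taui, .xii, .p, .xii, .y2, .y10, .hi, .xii, .y4, .y7, .taui, .y1, .xii, .p10, .xii,
  .y1, .p10, .y9, .xii, .y8, .tau, .X0, .p10, .xii, .y7, .p9, .xii, .y4, .taui, .xii, .p4, .xii, .y1, .y4, .p6, .xii,
  .y1, .tau, .xii, .p10], [.Z10, .Z6, .Z3, .Z2, .Z1, .Z0, .X10, .X5, .X4, .y7, .y2, .y1, .p7, .hi, .p3, .hi, .p7,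
  .hi, .p8, .hi, .p, .hi, .p10, .xii, .p10, .hi, .p, .taui, .xii, .y1, .p, .xii, .y10, .p, .xii, .y6, .taui, .y1,
  .xii, .p10, .xii, .y4, .p10, .xii, .y3, .y7, .taui, .p8, .xii, .p3, .xii, .y2, .taui, .xii, .p3, .xii, .y1, .hi,
  .xii, .y5, .tau, .xii, .p10], [.Z8, .Z2, .X9, .X7, .X6, .X3, .X1, .X0, .y10, .y8, .y7, .y4, .p, .hi, .p10, .hi,
  .p4, .hi, .p5, .hi, .p10, .xii, .y2, .hi, .xii, .p5, .hi, .p5, .taui, .y1, .xii, .p10, .xii, .y1, .p10, .y9, .xii,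
  .taui, .xii, .y1, .p, .hi, .xii, .y5, .X0, .p9, .xii, .p10, .xii, .y4, .taui, .xii, .p8, .xii, .y3, .p2, .y7, .xii,
  .y6, .taui, .xii, .y2, .p6], [.Z9, .Z7, .Z6, .Z5, .Z4, .Z3, .Z0, .X9, .X2, .X0, .y10, .p10, .hi, .p10, .hi, .p8,
  .hi, .p4, .hi, .p7, .hi, .p6, .xii, .p10, .xii, .y8, .tau, .xii, .p, .xii, .y3, .y10, .hi, .xii, .y1, .tau, .y1,
  .xii, .y2, .hi, .xii, .p10, .xii, .y4, .p9, .xii, .hi, .xii, .y8, .taui, .xii, .p5, .xii, .y4, .y9, .p9, .xii, .y2,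
  .tau, .xii, .p5, .hi, .p10], [.Z9, .Z7, .Z6, .Z5, .Z2, .X9, .y9, .y6, .y5, .y3, .y2, .p10, .hi, .p9, .hi, .p6, .hi,
  .p8, .hi, .p4, .hi, .p2, .hi, .xii, .p10, .xii, .y4, .p10, .xii, .y4, .y9, .taui, .y1, .xii, .p10, .xii, .y1, .y7,
  .p10, .xii, .y4, .taui, .xii, .hi, .p6, .xii, .p10, .xii, .y5, .y8, .tau, .xii, .p4, .xii, .p10, .xii, .y3, .y6,
  .taui, .xii, .p8, .xii, .y7], [.Z9, .Z8, .Z7, .Z3, .Z2, .Z0, .X8, .X5, .X4, .X3, .y10, .y9, .y8, .y3, .hi, .p6,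
  .hi, .p10, .hi, .p9, .hi, .p4, .hi, .p4, .hi, .xii, .y2, .p10, .xii, .y8, .tau, .xii, .y6, .p, .xii, .p, .xii, .y6,
  .y10, .tau, .xii, .p3, .hi, .p3, .hi, .p9, .xii, .p2, .y7, .xii, .tau, .xii, .p7, .xii, .p9, .y3, .xii, .y2, .y7,
  .taui, .xii, .y2, .p6], [.Z9, .Z5, .Z1, .Z0, .X10, .X7, .X4, .X2, .y5, .y4, .y1, .p8, .hi, .p6, .hi, .p6, .hi, .p3,
  .hi, .p9, .hi, .p7, .hi, .xii, .p, .xii, .y10, .hi, .p10, .taui, .xii, .p, .xii, .y2, .hi, .xii, .y5, .taui, .xii,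
  .p, .xii, .y4, .hi, .xii, .y5, .y9, .y10, .p5, .xii, .p6, .xii, .y6, .taui, .xii, .p7, .xii, .p9, .y6, .xii, .y2,
  .tau, .xii, .y2], [.Z2, .X7, .X6, .X3, .X1, .X0, .y10, .y9, .y6, .hi, .p8, .hi, .p6, .hi, .p7, .hi, .p3, .hi, .p10,
  .hi, .p, .xii, .y2, .p, .xii, .y3, .taui, .xii, .p, .xii, .y2, .hi, .xii, .y7, .y10, .taui, .xii, .p, .xii, .hi,
  .y8, .xii, .y6, .y10, .taui, .p9, .xii, .p2, .y4, .xii, .taui, .xii, .y2, .p3, .xii, .y3, .hi, .xii, .tau, .xii,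
  .p5, .xii, .y1], [.Z8, .Z5, .X10, .X9, .X6, .X1, .y9, .y8, .hi, .p10, .hi, .p9, .hi, .p7, .hi, .p10, .hi, .p5, .hi,
  .p5, .hi, .xii, .p10, .xii, .y9, .p6, .xii, .y7, .taui, .xii, .p, .xii, .hi, .y8, .xii, .y5, .taui, .y1, .xii,
  .p10, .xii, .y5, .p10, .xii, .y9, .X0, .p8, .xii, .y7, .p10, .xii, .tau, .xii, .p5, .xii, .y8, .p, .xii, .y4,
  .taui, .xii, .hi, .xii, .y4], [.Z10, .Z6, .Z4, .Z3, .Z0, .X10, .X8, .X5, .X1, .y10, .y4, .y2, .y1, .p9, .hi, .p5,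
  .hi, .p4, .hi, .p8, .hi, .p8, .xii, .p10, .xii, .y4, .p2, .xii, .y6, .y10, .taui, .y1, .xii, .p10, .xii, .y8, .p10,
  .xii, .y2, .tau, .xii, .p6, .xii, .y6, .hi, .xii, .p, .tau, .p7, .xii, .hi, .xii, .y7, .tau, .xii, .p7, .xii, .y5,
  .y9, .p3, .xii, .taui, .xii, .p2], [.Z4, .Z2, .Z0, .X10, .X9, .X8, .X6, .X5, .X4, .X3, .X2, .X1, .y10, .y9, .y7,
  .y6, .y4, .y2, .p8, .hi, .p6, .hi, .xii, .y2, .hi, .p8, .xii, .y9, .tau, .y1, .xii, .p10, .xii, .p10, .y7, .xii,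
  .y4, .y10, .tau, .xii, .p, .xii, .y1, .y3, .p2, .hi, .p5, .xii, .p7, .xii, .y6, .taui, .xii, .p8, .xii, .p2, .y4,
  .xii, .y5, .tau, .xii, .y2, .p6, .xii], [.Z10, .Z9, .Z8, .X10, .X6, .X5, .X4, .X1, .X0, .y7, .y6, .y5, .y3, .y2,
  .hi, .p6, .hi, .p8, .hi, .p6, .hi, .p7, .hi, .p6, .hi, .xii, .p3, .hi, .xii, .y1, .y6, .taui, .y1, .xii, .y2, .hi,
  .xii, .y9, .p10, .xii, .y4, .tau, .y1, .xii, .y2, .hi, .xii, .y9, .p5, .xii, .p9, .xii, .taui, .xii, .p2, .xii,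
  .p10, .xii, .y6, .y7, .taui, .xii, .p5, .xii], [.Z10, .Z8, .Z7, .Z6, .Z2, .X8, .X7, .X6, .X3, .y4, .y3, .hi, .p4,
  .hi, .p5, .hi, .p10, .hi, .p3, .hi, .p3, .hi, .p8, .hi, .xii, .p, .xii, .p2, .hi, .p2, .taui, .xii, .p, .xii, .y3,
  .hi, .xii, .y6, .y10, .taui, .xii, .p, .hi, .xii, .p5, .hi, .p2, .xii, .y1, .p, .xii, .tau, .xii, .p9, .xii, .y4,
  .y6, .p6, .xii, .y2, .tau, .xii, .y2, .p6], [.Z10, .Z8, .Z3, .Z2, .X4, .X1, .y9, .y8, .y5, .y2, .p10, .hi, .p2,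
  .hi, .p8, .hi, .p4, .hi, .p7, .xii, .p3, .hi, .xii, .y8, .p6, .tau, .xii, .p, .xii, .y1, .y10, .hi, .xii, .y1,
  .tau, .xii, .y1, .p, .xii, .p, .xii, .y2, .y5, .taui, .X0, .p8, .xii, .y6, .p4, .xii, .y1, .tau, .xii, .p7, .xii,
  .y1, .y5, .p9, .xii, .y7, .tau, .xii, .p10, .xii], [.Z8, .Z7, .Z6, .Z1, .X10, .X9, .X4, .X3, .X2, .y10, .y8, .y6,
  .p9, .hi, .p6, .hi, .p7, .hi, .p5, .hi, .p8, .hi, .xii, .hi, .p8, .xii, .y4, .y7, .p10, .tau, .xii, .p, .xii, .y2,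
  .y10, .hi, .xii, .y5, .taui, .X0, .y1, .p6, .xii, .p, .xii, .y2, .hi, .p, .xii, .y6, .p3, .xii, .y1, .taui, .xii,
  .p4, .xii, .y1, .y4, .p5, .xii, .tau, .xii, .p], [.Z10, .Z2, .Z1, .Z0, .X9, .X8, .X3, .X0, .y10, .y6, .y5, .p5,
  .hi, .p9, .hi, .p7, .hi, .p7, .hi, .p7, .hi, .xii, .p10, .xii, .y7, .p3, .hi, .p5, .tau, .xii, .p, .xii, .y1, .y10,
  .hi, .xii, .y7, .taui, .y1, .xii, .y2, .hi, .xii, .y10, .p9, .xii, .y6, .p6, .xii, .y6, .taui, .xii, .p2, .xii,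
  .p7, .y7, .xii, .y7, .y10, .tau, .xii, .p8, .xii, .y6], [.Z7, .Z6, .Z5, .Z2, .Z1, .X9, .X5, .X4, .X2, .X0, .y3,
  .y1, .p8, .hi, .p4, .hi, .p7, .hi, .p3, .hi, .p8, .xii, .p, .xii, .y10, .hi, .p10, .taui, .xii, .p, .xii, .y4,
  .y10, .hi, .xii, .y7, .y10, .tau, .xii, .p3, .hi, .xii, .y8, .X0, .p10, .xii, .y6, .p10, .xii, .y10, .tau, .xii,
  .p9, .xii, .y9, .p9, .xii, .y4, .y6, .tau, .xii, .hi, .xii, .y8], [.Z8, .Z7, .Z5, .Z4, .Z3, .Z2, .Z1, .Z0, .X10,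
  .X7, .X6, .X4, .X0, .y10, .y9, .y7, .y6, .y5, .y3, .p, .hi, .p2, .xii, .hi, .xii, .p8, .xii, .y4, .y9, .taui, .xii,
  .p, .xii, .p2, .hi, .xii, .tau, .xii, .p, .xii, .y2, .hi, .xii, .y5, .y10, .tau, .p8, .xii, .p4, .xii, .y2, .tau,
  .xii, .p7, .xii, .p3, .y8, .xii, .y3, .y4, .taui, .xii, .y2, .p2], [.Z7, .Z6, .Z4, .Z3, .Z2, .Z1, .X9, .X8, .X7,
  .X3, .y7, .y5, .y2, .p10, .hi, .p4, .hi, .p10, .hi, .p4, .hi, .p3, .hi, .p6, .hi, .p8, .hi, .xii, .p3, .hi, .xii,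
  .y8, .y9, .taui, .xii, .p, .xii, .hi, .y8, .xii, .y3, .tau, .xii, .p, .hi, .xii, .y7, .p, .xii, .p, .xii, .y8,
  .taui, .xii, .p7, .xii, .y2, .y4, .p8, .xii, .y8, .taui, .xii, .hi], [.Z8, .Z7, .Z4, .Z0, .X9, .X4, .y10, .y7, .y4,
  .hi, .p9, .hi, .p7, .hi, .p6, .hi, .p4, .hi, .p8, .hi, .p9, .xii, .p, .xii, .p7, .xii, .taui, .y1, .xii, .p10,
  .xii, .y1, .p10, .xii, .y9, .taui, .y1, .xii, .p10, .xii, .p10, .y7, .xii, .y8, .tau, .p10, .xii, .y10, .p2, .xii,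
  .y8, .taui, .xii, .y2, .p9, .xii, .y5, .p6, .xii, .y7, .taui, .xii, .y2, .p2], [.Z10, .Z8, .Z7, .Z6, .Z4, .Z1, .X8,
  .X3, .y10, .y8, .y7, .y4, .y3, .y2, .y1, .hi, .p10, .hi, .p3, .hi, .p7, .hi, .p7, .hi, .p9, .xii, .p, .xii, .y1,
  .tau, .y1, .xii, .p10, .xii, .y2, .p10, .xii, .y2, .taui, .y1, .xii, .p10, .xii, .y1, .p10, .xii, .y1, .y5, .taui,
  .X0, .p9, .xii, .hi, .xii, .taui, .xii, .p7, .xii, .y1, .p9, .xii, .y8, .taui, .xii, .p10], [.Z10, .Z8, .Z7, .Z6,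
  .Z5, .Z4, .Z2, .Z1, .Z0, .X7, .X4, .X2, .y10, .y8, .y7, .y5, .y4, .y3, .p6, .hi, .p, .hi, .p, .hi, .p4, .xii, .p,
  .xii, .y6, .tau, .xii, .y1, .p, .xii, .p, .xii, .y2, .y5, .tau, .y1, .xii, .p10, .xii, .y1, .y7, .p10, .xii, .y4,
  .X0, .p3, .xii, .p10, .xii, .taui, .xii, .p5, .xii, .y4, .y5, .p9, .xii, .y7, .tau, .xii, .p7], [.Z8, .Z5, .Z3,
  .Z2, .Z1, .X7, .X1, .X0, .y10, .y9, .y7, .y6, .y3, .p9, .hi, .p, .hi, .p5, .hi, .p, .hi, .p, .xii, .p3, .hi, .xii,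
  .y7, .p6, .taui, .xii, .y2, .p, .xii, .y2, .hi, .xii, .y7, .tau, .xii, .p, .xii, .y4, .y10, .hi, .xii, .y4, .y7,
  .tau, .p10, .xii, .p10, .xii, .tau, .xii, .y2, .p8, .xii, .y7, .p2, .xii, .y3, .taui, .xii, .p10, .xii], [.Z9, .Z7,
  .Z0, .X10, .X9, .X3, .X2, .y9, .y6, .y5, .p, .hi, .p, .hi, .p4, .hi, .p, .hi, .p6, .hi, .xii, .p10, .xii, .y9, .p3,
  .hi, .p5, .taui, .y1, .xii, .y1, .hi, .xii, .p10, .xii, .y9, .tau, .xii, .y6, .p, .xii, .y10, .p, .xii, .y5, .y10,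
  .taui, .p10, .xii, .y2, .p2, .xii, .y8, .tau, .xii, .p7, .xii, .p9, .y1, .xii, .y2, .y9, .tau, .xii, .p4], [.Z8,
  .Z4, .Z2, .Z1, .X10, .X9, .X4, .X2, .X1, .y10, .y8, .y7, .hi, .p5, .hi, .p6, .hi, .p6, .hi, .p4, .hi, .p2, .xii,
  .p, .xii, .p, .xii, .y1, .y8, .taui, .xii, .p, .xii, .hi, .y8, .xii, .y7, .y10, .taui, .xii, .p, .xii, .y4, .hi,
  .xii, .y3, .taui, .X0, .p2, .xii, .p8, .xii, .y7, .tau, .xii, .y2, .p2, .xii, .p6, .xii, .y4, .taui, .xii, .y2,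
  .p7], [.Z8, .Z5, .Z4, .Z3, .Z2, .Z1, .X9, .X8, .X5, .X4, .X3, .X0, .y10, .y9, .y8, .y6, .y4, .y2, .y1, .p8, .hi,
  .p, .hi, .p7, .hi, .p8, .hi, .p, .hi, .p, .xii, .y2, .hi, .xii, .p5, .taui, .xii, .p, .xii, .y4, .hi, .xii, .y4,
  .y7, .taui, .xii, .hi, .p2, .xii, .p10, .y7, .xii, .taui, .xii, .p4, .xii, .p8, .y10, .xii, .y7, .taui, .xii, .hi,
  .xii, .y8], [.Z10, .Z6, .Z1, .Z0, .X8, .X7, .X6, .X5, .X4, .X2, .X1, .y8, .y4, .p10, .hi, .p6, .hi, .p10, .hi, .p5,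
  .hi, .p4, .hi, .p4, .hi, .xii, .p2, .hi, .xii, .tau, .xii, .y2, .p, .xii, .y3, .hi, .xii, .y6, .tau, .xii, .y6, .p,
  .xii, .y2, .p, .xii, .y1, .p5, .xii, .p10, .xii, .taui, .xii, .y2, .p5, .xii, .y8, .p8, .xii, .y1, .taui, .xii,
  .y2, .hi, .p6], [.Z10, .Z8, .Z7, .Z5, .Z3, .Z2, .Z1, .X3, .X0, .y8, .y7, .y6, .y4, .y3, .y1, .p7, .hi, .p4, .hi,
  .p10, .hi, .p6, .hi, .p10, .xii, .hi, .p8, .xii, .p2, .y2, .tau, .xii, .p, .xii, .y2, .hi, .xii, .y2, .y3, .tau,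
  .y1, .xii, .hi, .xii, .y1, .p9, .xii, .y10, .hi, .xii, .y6, .taui, .xii, .y2, .p4, .xii, .y6, .p10, .xii, .y1,
  .tau, .xii, .p2, .xii, .y3], [.Z4, .Z2, .Z1, .X10, .X9, .X8, .X5, .X3, .X1, .y9, .y6, .y5, .y3, .p, .hi, .p6, .hi,
  .p7, .hi, .p, .hi, .p9, .xii, .hi, .xii, .p2, .xii, .y4, .y5, .taui, .y1, .xii, .y1, .hi, .xii, .p10, .xii, .y8,
  .taui, .xii, .p, .xii, .y4, .hi, .xii, .y2, .y7, .p8, .xii, .y4, .p4, .xii, .tau, .xii, .p5, .xii, .y5, .p2, .y10,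
  .xii, .y10, .taui, .xii, .p, .xii, .y10], [.Z8, .Z6, .Z3, .Z1, .X9, .X6, .X0, .y10, .y8, .y6, .y2, .y1, .p10, .hi,
  .p6, .hi, .p3, .hi, .p4, .hi, .p, .hi, .p3, .hi, .xii, .hi, .xii, .p10, .xii, .y8, .y9, .tau, .xii, .p, .xii, .y1,
  .hi, .xii, .y7, .taui, .xii, .y6, .p, .xii, .p, .xii, .y1, .y4, .X0, .p7, .xii, .p7, .xii, .y1, .tau, .xii, .p9,
  .xii, .y1, .y3, .p6, .xii, .y6, .tau, .xii, .y2, .p6]]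

theorem com30F : comA w10F T30F = true := by decide +kernel

theorem orb30F : orbA w3B T30F [] = true := by decide +kernel

/-- words -/
def T20J : List (List Ltr) :=
  [[], [.Z10, .Z9, .Z7, .Z3, .Z2, .X10, .X9, .X8, .X7, .X4], [.Z7, .Z6, .Z1, .X7, .X6, .X5, .y10, .y7, .y5, .y4, .p9,
  .hi, .p3, .hi, .p10, .hi, .p4, .hi, .p5, .hi, .xii, .p5, .hi, .p8, .hi, .X0, .y1, .p9, .xii, .p, .hi], [.Z10, .Z6,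
  .Z4, .Z2, .Z0, .X9, .X7, .X3, .y5, .y4, .y2, .y1, .p3, .hi, .p6, .hi, .p6, .hi, .p6, .hi, .p4, .hi, .p9, .xii,
  .p10, .hi, .p6, .xii, .y2, .p10, .hi], [.Z9, .Z6, .Z5, .Z3, .X8, .X5, .X3, .X2, .y8, .y5, .y4, .y1, .p8, .hi, .p9,
  .hi, .p6, .hi, .p7, .hi, .p3, .xii, .p, .xii, .hi, .p10, .y8, .p9, .xii, .p, .xii], [.Z9, .Z3, .X10, .X3, .X2, .y6,
  .p10, .hi, .p10, .hi, .p10, .hi, .p8, .hi, .p3, .hi, .p2, .hi, .xii, .p2, .hi, .xii, .y4, .y5, .p3, .X0, .p9, .xii,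
  .y3, .p10, .xii, .y8], [.Z10, .Z8, .Z7, .Z2, .Z1, .Z0, .X10, .X9, .X6, .X4, .X1, .X0, .p6, .hi, .p, .hi, .p3, .hi,
  .p6, .hi, .p3, .xii, .hi, .p8, .xii, .y9, .y10, .xii, .y2, .p3, .xii, .y3], [.Z10, .Z9, .Z6, .Z1, .X10, .X7, .X4,
  .X3, .y7, .y2, .hi, .p7, .hi, .p4, .hi, .p, .hi, .p5, .hi, .xii, .hi, .xii, .y8, .p6, .xii, .y4, .y7, .p5, .xii,
  .y8, .p6, .xii], [.Z10, .Z9, .Z1, .X10, .X8, .X7, .X6, .X4, .y10, .y9, .p10, .hi, .p10, .hi, .p4, .hi, .p7, .hi,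
  .p3, .hi, .p, .hi, .p7, .xii, .p2, .hi, .xii, .X0, .p5, .xii, .y5, .p10, .xii], [.Z9, .Z2, .Z1, .X10, .X8, .X5,
  .X2, .X1, .y10, .y9, .y6, .y4, .y3, .y1, .p7, .hi, .p6, .hi, .p5, .hi, .p4, .hi, .p10, .xii, .p, .xii, .y6, .p3,
  .hi, .X0, .p9, .xii, .y4], [.Z10, .Z9, .Z7, .Z6, .Z0, .X7, .X4, .X1, .X0, .y8, .y5, .y4, .y1, .p8, .hi, .p9, .hi,
  .p6, .hi, .p7, .hi, .p3, .xii, .p, .xii, .hi, .p10, .y8, .X0, .p9, .xii, .p, .xii], [.Z10, .Z5, .Z4, .Z3, .Z1, .Z0,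
  .X9, .X5, .X3, .X0, .y10, .y9, .p10, .hi, .p10, .hi, .p4, .hi, .p7, .hi, .p3, .hi, .p, .hi, .p7, .xii, .p2, .hi,
  .xii, .p5, .xii, .y5, .p10, .xii], [.Z7, .Z4, .Z1, .X8, .X7, .X4, .X2, .y9, .y3, .p10, .hi, .p4, .hi, .p5, .hi, .p,
  .hi, .p8, .xii, .y2, .p, .xii, .p9, .xii, .y8, .tau, .xii, .y6, .p, .xii, .y3, .tau, .y1, .p10, .xii, .p2, .xii,
  .y2, .taui, .xii, .p4, .xii, .p2, .hi, .y4, .tau, .xii, .p], [.Z10, .Z1, .X7, .X6, .X4, .X3, .X1, .y7, .y4, .p3,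
  .hi, .p10, .hi, .p8, .hi, .p4, .hi, .p9, .xii, .p, .xii, .y4, .p, .xii, .y5, .tau, .X0, .p4, .xii, .p10, .xii, .y7,
  .p8, .tau, .X0, .p4, .xii, .p8, .xii, .y7, .taui, .xii, .p6, .xii, .p2, .y6, .hi, .tau, .xii, .p], [.Z10, .Z9, .Z8,
  .Z6, .Z2, .X10, .X4, .X3, .X1, .X0, .y9, .y3, .p10, .hi, .p4, .hi, .p5, .hi, .p, .hi, .p8, .xii, .y2, .p, .xii,
  .p9, .xii, .y8, .tau, .xii, .y6, .p, .xii, .y3, .tau, .y1, .p10, .xii, .p2, .xii, .y2, .taui, .xii, .p4, .xii, .p2,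
  .hi, .y4, .tau, .xii, .p], [.Z9, .X8, .X7, .X4, .X2, .X1, .y10, .y9, .y7, .y2, .p10, .hi, .p5, .hi, .p5, .hi, .p5,
  .hi, .p4, .hi, .p3, .xii, .hi, .p8, .xii, .y2, .p10, .taui, .X0, .p4, .xii, .p10, .xii, .y9, .p8, .taui, .X0, .p3,
  .xii, .p9, .xii, .y2, .tau, .xii, .p4, .xii, .p2, .hi, .taui, .xii, .p], [.Z5, .Z3, .Z2, .Z1, .Z0, .X9, .X8, .X7,
  .X3, .y9, .y8, .y3, .hi, .p3, .hi, .p, .hi, .p5, .hi, .xii, .hi, .p8, .xii, .y1, .p10, .tau, .X0, .p7, .xii, .p10,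
  .xii, .p5, .y5, .tau, .X0, .p9, .xii, .p10, .xii, .y2, .y8, .taui, .xii, .p3, .xii, .p, .hi, .p6, .taui, .xii, .p],
  [.Z7, .Z5, .Z4, .Z1, .Z0, .X7, .X6, .X2, .y2, .hi, .p7, .hi, .p9, .hi, .p7, .hi, .p9, .hi, .p, .xii, .y2, .p, .xii,
  .p8, .xii, .y6, .taui, .y1, .xii, .p10, .xii, .y1, .p10, .y9, .xii, .y10, .taui, .p10, .xii, .p2, .xii, .y4, .tau,
  .xii, .p5, .xii, .y1, .y6, .p10, .tau, .xii, .p6], [.Z9, .Z7, .Z6, .Z4, .Z0, .X10, .X7, .X2, .y10, .y4, .p6, .hi,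
  .p8, .hi, .p5, .hi, .p, .hi, .p6, .hi, .p7, .xii, .p10, .xii, .p9, .y6, .xii, .y7, .taui, .xii, .p, .xii, .y2, .hi,
  .xii, .y3, .y9, .tau, .p10, .xii, .y7, .p2, .xii, .taui, .xii, .p8, .xii, .y1, .p4, .tau, .xii, .p2], [.Z10, .Z8,
  .Z2, .Z1, .Z0, .X8, .X3, .X1, .X0, .y10, .y4, .p6, .hi, .p8, .hi, .p5, .hi, .p, .hi, .p6, .hi, .p7, .xii, .p10,
  .xii, .p9, .y6, .xii, .y7, .taui, .xii, .p, .xii, .y2, .hi, .xii, .y3, .y9, .tau, .p10, .xii, .y7, .p2, .xii,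
  .taui, .xii, .p8, .xii, .y1, .p4, .tau, .xii, .p2], [.Z6, .Z4, .X9, .X8, .X6, .X4, .X3, .X1, .y10, .y9, .y7, .y6,
  .y3, .y1, .p5, .hi, .p5, .hi, .p6, .hi, .p6, .hi, .p4, .hi, .p5, .xii, .hi, .xii, .p10, .xii, .y8, .tau, .xii, .y6,
  .p, .xii, .y1, .tau, .X0, .p10, .xii, .p8, .xii, .tau, .xii, .p3, .xii, .y5, .p2, .hi, .tau, .xii, .p], [.Z8, .Z7,
  .Z6, .X10, .X7, .X5, .X4, .X3, .X2, .y8, .y7, .y3, .p9, .hi, .p3, .hi, .p10, .hi, .p7, .hi, .p, .hi, .p8, .hi,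
  .xii, .hi, .xii, .p8, .xii, .tau, .xii, .y1, .p, .xii, .y3, .taui, .y1, .p10, .xii, .p2, .xii, .y8, .tau, .xii,
  .p2, .xii, .y1, .y10, .p2, .hi, .taui, .xii, .p], [.Z7, .Z6, .Z5, .Z3, .Z1, .X10, .X9, .X8, .X7, .X6, .X0, .y8,
  .y3, .y2, .p, .hi, .p8, .hi, .p9, .hi, .p7, .hi, .p10, .hi, .xii, .y2, .p, .xii, .y3, .p9, .xii, .y8, .taui, .X0,
  .p3, .xii, .hi, .xii, .p8, .y2, .taui, .X0, .y1, .p7, .xii, .p9, .xii, .tau, .xii, .p7, .xii, .p2, .y5, .tau, .xii,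
  .p], [.Z10, .Z9, .Z8, .Z5, .Z4, .Z3, .Z2, .X9, .X6, .X3, .X2, .X1, .y8, .y3, .y2, .p, .hi, .p8, .hi, .p9, .hi, .p7,
  .hi, .p10, .hi, .xii, .y2, .p, .xii, .y3, .p9, .xii, .y8, .taui, .X0, .p3, .xii, .hi, .xii, .p8, .y2, .taui, .X0,
  .y1, .p7, .xii, .p9, .xii, .tau, .xii, .p7, .xii, .p2, .y5, .tau, .xii, .p], [.Z8, .Z2, .X10, .X7, .X2, .y10, .y4,
  .y2, .p2, .hi, .p3, .hi, .p5, .hi, .p7, .hi, .p9, .xii, .p10, .xii, .p6, .xii, .y7, .taui, .y1, .xii, .y2, .hi,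
  .xii, .p10, .xii, .y4, .tau, .y1, .xii, .p10, .xii, .y4, .p10, .xii, .tau, .p2, .xii, .p9, .xii, .y9, .taui, .xii,
  .p6, .xii, .y3, .p2, .xii, .y9, .taui, .xii, .p10, .xii], [.Z8, .Z2, .Z0, .X10, .X9, .X7, .X5, .X3, .X0, .y5, .y4,
  .y2, .p7, .hi, .p7, .hi, .p5, .hi, .p3, .hi, .p8, .xii, .p3, .hi, .xii, .p10, .y7, .taui, .xii, .p, .xii, .y1, .hi,
  .xii, .y5, .y10, .taui, .xii, .y2, .hi, .p8, .xii, .y10, .p8, .xii, .y7, .p4, .xii, .taui, .xii, .p7, .xii, .y2,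
  .p5, .xii, .tau, .xii, .p], [.Z10, .Z7, .Z4, .X3, .X2, .X0, .y8, .y7, .y5, .y3, .y2, .hi, .p9, .hi, .p5, .hi, .p3,
  .hi, .p, .hi, .p8, .hi, .xii, .y2, .p, .hi, .xii, .y5, .p3, .tau, .xii, .y1, .p, .xii, .p, .xii, .y2, .y3, .tau,
  .y1, .xii, .y1, .p5, .xii, .p8, .xii, .y9, .tau, .xii, .p7, .xii, .y1, .p7, .xii, .taui, .xii, .y2, .hi, .p9],
  [.Z8, .Z5, .Z4, .Z3, .Z2, .Z1, .X10, .X5, .X0, .y7, .y3, .hi, .p3, .hi, .p3, .hi, .p, .hi, .p8, .hi, .p5, .xii,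
  .p2, .hi, .xii, .tau, .xii, .p, .xii, .y4, .hi, .xii, .y6, .y10, .taui, .xii, .y6, .p3, .hi, .xii, .y1, .p10, .y1,
  .p9, .xii, .p10, .xii, .y5, .tau, .xii, .p4, .xii, .y2, .p9, .xii, .y9, .taui, .xii, .p3], [.Z5, .Z4, .Z3, .X10,
  .X9, .X7, .X4, .X3, .X0, .y9, .y6, .y4, .p3, .hi, .p7, .hi, .p7, .hi, .p8, .hi, .p, .hi, .p3, .xii, .p, .xii, .y6,
  .p3, .hi, .taui, .xii, .y6, .p, .xii, .p, .xii, .y7, .taui, .xii, .p10, .hi, .p2, .hi, .p4, .xii, .y3, .p, .xii,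
  .taui, .xii, .p2, .xii, .hi, .xii, .y5, .taui, .xii, .p8, .xii, .y9], [.Z9, .Z5, .Z4, .Z2, .Z1, .Z0, .X8, .X5, .X2,
  .X1, .y8, .y7, .y6, .y3, .p6, .hi, .p6, .hi, .p4, .hi, .p3, .hi, .p8, .xii, .p, .xii, .y3, .tau, .X0, .xii, .p3,
  .xii, .hi, .xii, .p8, .tau, .y1, .xii, .p10, .xii, .y5, .p10, .xii, .p9, .xii, .hi, .xii, .y9, .taui, .xii, .p7,
  .xii, .y1, .p10, .xii, .y6, .tau, .xii, .p5, .xii], [.Z6, .Z3, .Z2, .X4, .X1, .X0, .y6, .y4, .p7, .hi, .p4, .hi,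
  .p5, .hi, .p10, .hi, .p3, .hi, .p2, .hi, .xii, .p, .xii, .y6, .y10, .taui, .xii, .p, .xii, .y1, .y6, .hi, .xii,
  .y6, .taui, .xii, .p, .xii, .y1, .hi, .xii, .y5, .y8, .p10, .xii, .p9, .xii, .y5, .tau, .xii, .p7, .xii, .y2, .p7,
  .xii, .y3, .y4, .taui, .xii, .p], [.Z10, .Z9, .Z7, .Z4, .X10, .X6, .X4, .X3, .X1, .y10, .y5, .y3, .hi, .p4, .hi,
  .p3, .hi, .p4, .hi, .p3, .hi, .p, .xii, .p2, .hi, .xii, .taui, .y1, .xii, .y2, .hi, .xii, .p10, .xii, .y4, .y8,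
  .taui, .xii, .y1, .p, .xii, .y10, .p, .xii, .y6, .p9, .xii, .y6, .p2, .xii, .tau, .xii, .p6, .xii, .p6, .xii, .y5,
  .tau, .xii, .p7], [.Z9, .Z8, .Z6, .Z5, .Z1, .X9, .X3, .y10, .y6, .y1, .hi, .p4, .hi, .p, .hi, .p, .hi, .p8, .hi,
  .p6, .hi, .xii, .p10, .xii, .taui, .y1, .xii, .p10, .xii, .y5, .p10, .xii, .y2, .y10, .tau, .xii, .y6, .hi, .p8,
  .xii, .y2, .p5, .xii, .p5, .xii, .y6, .tau, .xii, .p5, .xii, .y8, .y9, .p5, .xii, .y1, .tau, .xii, .y2, .hi, .p4],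
  [.Z10, .Z8, .Z7, .Z5, .Z1, .X4, .X3, .y10, .y9, .y7, .y1, .hi, .p4, .hi, .p7, .hi, .p4, .hi, .p8, .hi, .p10, .xii,
  .p10, .xii, .y6, .p8, .xii, .tau, .xii, .p, .xii, .y1, .hi, .xii, .y5, .taui, .xii, .p, .xii, .hi, .y8, .xii, .y1,
  .y9, .taui, .p5, .xii, .p10, .xii, .tau, .xii, .p2, .xii, .p2, .xii, .y2, .y7, .taui, .xii, .p4], [.Z8, .Z6, .Z2,
  .Z1, .X8, .X7, .X6, .X4, .X2, .X0, .y10, .y5, .y3, .hi, .p4, .hi, .p3, .hi, .p4, .hi, .p3, .hi, .p, .xii, .p2, .hi,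
  .xii, .taui, .y1, .xii, .y2, .hi, .xii, .p10, .xii, .y4, .y8, .taui, .xii, .y1, .p, .xii, .y10, .p, .xii, .y6, .p9,
  .xii, .y6, .p2, .xii, .tau, .xii, .p6, .xii, .p6, .xii, .y5, .tau, .xii, .p7], [.Z10, .Z9, .Z4, .Z2, .Z1, .Z0, .X9,
  .X5, .X3, .X0, .y5, .y4, .y3, .y2, .y1, .hi, .p7, .hi, .p9, .hi, .p6, .hi, .p, .xii, .p, .hi, .xii, .y5, .taui,
  .y1, .xii, .p10, .xii, .y1, .p10, .xii, .y2, .taui, .y1, .xii, .y2, .p2, .hi, .xii, .X0, .p10, .xii, .p2, .xii,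
  .taui, .xii, .p9, .xii, .y3, .y7, .p, .xii, .y8, .tau, .xii, .p], [.Z9, .Z8, .Z6, .Z3, .Z2, .Z1, .X10, .X1, .y10,
  .y9, .y8, .y4, .p10, .hi, .p5, .hi, .p4, .hi, .p8, .hi, .p9, .hi, .p8, .xii, .y2, .p3, .hi, .xii, .taui, .y1, .xii,
  .y2, .hi, .xii, .y9, .p10, .xii, .y10, .tau, .y1, .xii, .y1, .hi, .p8, .hi, .xii, .y7, .p10, .xii, .y7, .taui,
  .xii, .y2, .p4, .xii, .p4, .xii, .y2, .tau, .xii, .p], [.Z10, .Z9, .Z7, .Z6, .Z4, .Z1, .Z0, .X9, .X8, .X5, .X2,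
  .X1, .y5, .y4, .y2, .p7, .hi, .p7, .hi, .p5, .hi, .p3, .hi, .p8, .xii, .p3, .hi, .xii, .p10, .y7, .taui, .xii, .p,
  .xii, .y1, .hi, .xii, .y5, .y10, .taui, .xii, .y2, .hi, .p8, .xii, .y10, .p8, .xii, .y7, .p4, .xii, .taui, .xii,
  .p7, .xii, .y2, .p5, .xii, .tau, .xii, .p], [.Z10, .Z8, .Z7, .Z6, .Z5, .Z0, .X10, .X7, .X5, .X3, .X0, .y8, .y7,
  .y6, .y3, .p6, .hi, .p6, .hi, .p4, .hi, .p3, .hi, .p8, .xii, .p, .xii, .y3, .tau, .X0, .xii, .p3, .xii, .hi, .xii,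
  .p8, .tau, .y1, .xii, .p10, .xii, .y5, .p10, .xii, .p9, .xii, .hi, .xii, .y9, .taui, .xii, .p7, .xii, .y1, .p10,
  .xii, .y6, .tau, .xii, .p5, .xii], [.Z6, .Z5, .Z3, .X5, .X1, .y9, .y4, .y2, .y1, .p8, .hi, .p, .hi, .p8, .hi, .p,
  .hi, .p7, .xii, .p, .xii, .p8, .y8, .xii, .y7, .taui, .xii, .p, .xii, .y4, .hi, .xii, .y4, .y5, .taui, .xii, .p,
  .xii, .y4, .hi, .xii, .y6, .taui, .X0, .p9, .xii, .y9, .hi, .xii, .y2, .taui, .xii, .p4, .xii, .y2, .p5, .xii, .y3,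
  .taui, .xii, .p4], [.Z10, .Z4, .Z2, .X7, .X6, .y5, .y3, .y1, .p10, .hi, .p8, .hi, .p9, .hi, .p10, .hi, .p2, .hi,
  .p5, .xii, .hi, .xii, .p2, .xii, .y3, .taui, .xii, .p, .xii, .y2, .hi, .xii, .y7, .taui, .xii, .p, .xii, .hi, .y8,
  .xii, .y7, .y8, .X0, .p3, .xii, .p6, .xii, .y8, .tau, .xii, .y2, .p2, .xii, .p10, .y1, .xii, .tau, .xii, .y2, .p5,
  .hi], [.Z10, .Z9, .Z1, .Z0, .X4, .X0, .y7, .y5, .y1, .hi, .p5, .hi, .p8, .hi, .p10, .hi, .p3, .hi, .p10, .xii, .hi,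
  .p8, .xii, .y4, .y7, .p10, .taui, .xii, .p, .xii, .y2, .hi, .xii, .y2, .y7, .taui, .xii, .y6, .p, .xii, .p, .y7,
  .xii, .y3, .X0, .p6, .xii, .p2, .xii, .taui, .xii, .p4, .xii, .y1, .p10, .xii, .y10, .tau, .xii, .y2, .p4], [.Z9,
  .Z8, .Z7, .Z6, .Z5, .Z3, .Z2, .Z0, .X5, .X3, .X2, .y10, .y9, .y8, .y7, .y6, .p8, .hi, .p5, .hi, .p5, .hi, .p3, .hi,
  .p7, .xii, .p10, .xii, .y9, .tau, .xii, .p, .xii, .y4, .hi, .xii, .y6, .y10, .tau, .xii, .y2, .hi, .p4, .hi, .p7,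
  .xii, .p9, .xii, .y6, .tau, .xii, .p4, .xii, .y1, .p8, .y2, .xii, .y7, .taui, .xii, .y2], [.Z10, .Z9, .Z3, .Z2,
  .X6, .X4, .y5, .y2, .p6, .hi, .p6, .hi, .p8, .hi, .p, .hi, .p2, .hi, .xii, .p, .xii, .y3, .y4, .hi, .p8, .taui,
  .y1, .xii, .p10, .xii, .y8, .p10, .xii, .y1, .y6, .taui, .xii, .y1, .p3, .hi, .xii, .y2, .p2, .hi, .X0, .p4, .xii,
  .p4, .xii, .y4, .taui, .xii, .p5, .xii, .y7, .p, .xii, .y5, .taui, .xii, .hi, .xii], [.Z10, .Z5, .Z4, .Z3, .Z1,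
  .Z0, .X10, .X8, .X7, .X5, .X1, .X0, .y10, .y9, .y8, .y7, .y6, .p8, .hi, .p5, .hi, .p5, .hi, .p3, .hi, .p7, .xii,
  .p10, .xii, .y9, .tau, .xii, .p, .xii, .y4, .hi, .xii, .y6, .y10, .tau, .xii, .y2, .hi, .p4, .hi, .p7, .xii, .p9,
  .xii, .y6, .tau, .xii, .p4, .xii, .y1, .p8, .y2, .xii, .y7, .taui, .xii, .y2], [.Z9, .Z8, .Z6, .Z2, .Z1, .X10, .X8,
  .X7, .X1, .y8, .y7, .y5, .y3, .y2, .hi, .p9, .hi, .p5, .hi, .p3, .hi, .p, .hi, .p8, .hi, .xii, .y2, .p, .hi, .xii,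
  .y5, .p3, .tau, .xii, .y1, .p, .xii, .p, .xii, .y2, .y3, .tau, .y1, .xii, .y1, .p5, .xii, .p8, .xii, .y9, .tau,
  .xii, .p7, .xii, .y1, .p7, .xii, .taui, .xii, .y2, .hi, .p9], [.Z9, .Z8, .Z2, .X7, .X6, .y10, .y9, .y2, .y1, .hi,
  .p5, .hi, .p7, .hi, .p8, .hi, .p8, .xii, .p10, .xii, .y5, .p2, .xii, .y6, .taui, .xii, .p, .xii, .y1, .hi, .xii,
  .y3, .y8, .taui, .xii, .y6, .p, .xii, .y2, .p, .xii, .y6, .tau, .X0, .p10, .xii, .y10, .p6, .xii, .tau, .xii, .y2,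
  .p7, .xii, .y6, .p8, .xii, .y2, .tau, .xii, .p7, .xii], [.Z8, .Z7, .Z6, .Z0, .X10, .X9, .X8, .X7, .X5, .X2, .X1,
  .y5, .y4, .y3, .y2, .y1, .hi, .p7, .hi, .p9, .hi, .p6, .hi, .p, .xii, .p, .hi, .xii, .y5, .taui, .y1, .xii, .p10,
  .xii, .y1, .p10, .xii, .y2, .taui, .y1, .xii, .y2, .p2, .hi, .xii, .X0, .p10, .xii, .p2, .xii, .taui, .xii, .p9,
  .xii, .y3, .y7, .p, .xii, .y8, .tau, .xii, .p], [.Z10, .Z3, .Z2, .Z0, .X8, .X5, .X4, .X2, .y10, .y5, .y2, .p10,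
  .hi, .p6, .hi, .p3, .hi, .p10, .xii, .p, .xii, .y4, .p8, .xii, .y5, .tau, .xii, .p, .xii, .y3, .hi, .xii, .y5,
  .y10, .taui, .xii, .p, .xii, .y2, .hi, .xii, .y4, .y5, .tau, .p10, .xii, .p9, .xii, .y5, .tau, .xii, .y2, .p9,
  .xii, .y2, .p3, .xii, .y4, .tau, .xii, .hi, .p2], [.Z9, .Z5, .Z0, .X10, .X8, .X4, .X3, .X1, .X0, .y10, .y8, .y7,
  .y5, .y4, .y3, .p6, .hi, .p, .hi, .p, .hi, .p4, .xii, .p, .xii, .y6, .tau, .xii, .y1, .p, .xii, .p, .xii, .y2, .y5,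
  .tau, .y1, .xii, .p10, .xii, .y1, .y7, .p10, .xii, .y4, .X0, .p3, .xii, .p10, .xii, .taui, .xii, .p5, .xii, .y4,
  .y5, .p9, .xii, .y7, .tau, .xii, .p7], [.Z9, .Z0, .X10, .X6, .X5, .X1, .X0, .y9, .y8, .y3, .p10, .hi, .p8, .hi,
  .p4, .hi, .p4, .hi, .p5, .hi, .p2, .xii, .p, .xii, .y3, .p7, .taui, .y1, .xii, .p10, .xii, .y5, .p10, .xii, .y4,
  .tau, .y1, .xii, .p10, .xii, .y5, .p10, .xii, .y9, .tau, .X0, .p6, .xii, .p6, .xii, .y7, .taui, .xii, .p7, .xii,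
  .p3, .xii, .y4, .y7, .taui, .xii, .p5], [.Z9, .Z6, .X4, .X1, .y10, .y4, .y3, .y2, .y1, .p6, .hi, .p9, .hi, .p10,
  .hi, .p3, .hi, .p5, .hi, .p5, .hi, .xii, .p10, .xii, .y7, .p8, .taui, .xii, .p, .xii, .y1, .hi, .xii, .y4, .y5,
  .y9, .tau, .y1, .xii, .p10, .xii, .p10, .y7, .y1, .p7, .xii, .p7, .xii, .y7, .tau, .xii, .p7, .xii, .y4, .p9, .y8,
  .xii, .y5, .taui, .xii, .y2, .p5], [.Z4, .Z3, .X9, .X8, .X5, .X2, .X1, .y7, .y4, .y1, .p8, .hi, .p3, .hi, .p3, .hi,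
  .p10, .hi, .p3, .hi, .p7, .xii, .y2, .hi, .p8, .xii, .y4, .tau, .y1, .xii, .y2, .hi, .xii, .p10, .xii, .tau, .xii,
  .y6, .p, .xii, .p, .xii, .y1, .y5, .y7, .tau, .p9, .xii, .p2, .xii, .tau, .xii, .p5, .xii, .y4, .p2, .xii, .y5,
  .taui, .xii, .p10, .xii], [.Z7, .Z6, .Z5, .Z3, .Z0, .X10, .X6, .X3, .X1, .X0, .y9, .y8, .y2, .hi, .p4, .hi, .p9,
  .hi, .p3, .hi, .p3, .xii, .y2, .p10, .xii, .y9, .p5, .taui, .y1, .xii, .p10, .xii, .y1, .y7, .p10, .xii, .y9, .tau,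
  .xii, .p, .xii, .p2, .y6, .y7, .hi, .p2, .xii, .p8, .xii, .y8, .tau, .xii, .p6, .xii, .y3, .p6, .xii, .y3, .y10,
  .tau, .xii, .p3], [.Z10, .Z7, .Z1, .Z0, .X7, .X3, .y10, .y9, .y6, .y4, .y1, .p8, .hi, .p7, .hi, .p8, .hi, .p, .xii,
  .y2, .p, .xii, .hi, .p4, .y3, .taui, .xii, .y1, .p, .xii, .p, .y7, .xii, .y6, .taui, .xii, .y1, .p, .xii, .y10, .p,
  .xii, .y4, .y5, .X0, .p3, .xii, .p2, .xii, .y5, .taui, .xii, .y2, .p7, .xii, .p5, .y10, .xii, .taui, .xii, .hi,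
  .xii], [.Z9, .Z8, .Z7, .Z3, .Z0, .X9, .X5, .X4, .X0, .y10, .y9, .y7, .y2, .y1, .p5, .hi, .p5, .hi, .p8, .hi, .p10,
  .hi, .p5, .xii, .p10, .xii, .p6, .xii, .y3, .tau, .X0, .xii, .p3, .xii, .hi, .xii, .y10, .hi, .tau, .xii, .y6, .p3,
  .hi, .xii, .y1, .p7, .xii, .p3, .xii, .y4, .taui, .xii, .p5, .xii, .y6, .hi, .xii, .tau, .xii, .p8, .xii, .y6],
  [.Z8, .Z4, .Z3, .Z1, .X8, .X6, .X3, .X1, .X0, .y10, .y7, .y3, .y2, .y1, .hi, .p8, .hi, .p7, .hi, .p10, .hi, .p,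
  .hi, .p2, .xii, .y2, .p, .xii, .y1, .tau, .xii, .y1, .p, .xii, .p, .xii, .y4, .y7, .taui, .xii, .p, .xii, .y1, .hi,
  .xii, .y5, .tau, .p10, .xii, .y4, .p8, .xii, .tau, .xii, .p8, .xii, .p2, .xii, .y10, .taui, .xii, .p6], [.Z9, .Z8,
  .Z7, .Z4, .Z3, .Z0, .X10, .X7, .X3, .X0, .y9, .y5, .y3, .y2, .p10, .hi, .p3, .hi, .p3, .hi, .p6, .hi, .p3, .hi,
  .p9, .xii, .hi, .p8, .xii, .y1, .p2, .taui, .y1, .xii, .p10, .xii, .y5, .p10, .xii, .taui, .xii, .y1, .p3, .hi,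
  .xii, .y1, .p10, .X0, .p10, .xii, .p9, .xii, .y8, .taui, .xii, .p6, .xii, .p6, .xii, .y5, .tau, .xii, .p7], [.Z9,
  .Z8, .Z5, .Z3, .X10, .X9, .X8, .X5, .X3, .y7, .y1, .p, .hi, .p3, .hi, .p, .hi, .p7, .hi, .p6, .hi, .xii, .p, .xii,
  .p9, .y1, .taui, .xii, .y6, .p, .xii, .p, .xii, .y1, .y2, .y4, .tau, .y1, .xii, .p10, .xii, .y1, .y9, .p10, .xii,
  .X0, .p9, .xii, .p10, .y9, .xii, .taui, .xii, .p9, .xii, .y10, .p3, .xii, .y3, .tau, .xii, .hi, .p5], [.Z9, .Z3,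
  .Z2, .Z1, .Z0, .X8, .X2, .X1, .X0, .y7, .y6, .y5, .y4, .y1, .p10, .hi, .p10, .hi, .p10, .hi, .p9, .hi, .p5, .hi,
  .p9, .xii, .p10, .xii, .p3, .y2, .hi, .tau, .y1, .xii, .p10, .xii, .y2, .p10, .xii, .y4, .y8, .tau, .y1, .xii, .y2,
  .p2, .hi, .p8, .xii, .y5, .p10, .xii, .tau, .xii, .y2, .p4, .xii, .p4, .xii, .y2, .tau, .xii, .p], [.Z6, .X10, .X9,
  .X2, .y6, .y5, .y1, .hi, .p5, .hi, .p, .hi, .p3, .hi, .p10, .hi, .p8, .hi, .xii, .p, .xii, .p2, .hi, .p5, .tau,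
  .xii, .y6, .p, .xii, .y4, .p, .xii, .y1, .y10, .taui, .xii, .p, .xii, .y2, .hi, .xii, .y7, .y10, .taui, .p5, .xii,
  .y2, .y8, .p, .xii, .tau, .xii, .p9, .xii, .y8, .p5, .xii, .y5, .y8, .taui, .xii, .y2, .p7], [.Z10, .Z8, .Z7, .Z6,
  .Z3, .X8, .X6, .X3, .y5, .p4, .hi, .p5, .hi, .p8, .hi, .p10, .hi, .p9, .hi, .p8, .xii, .p2, .hi, .xii, .y5, .y9,
  .p3, .tau, .xii, .y2, .p, .xii, .y2, .hi, .xii, .y7, .taui, .xii, .y1, .p, .xii, .y2, .p, .xii, .y1, .p6, .xii,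
  .p6, .xii, .taui, .xii, .p4, .xii, .y8, .y10, .p5, .xii, .y1, .tau, .xii, .y2, .p5, .hi], [.Z10, .Z8, .Z7, .Z1,
  .X10, .X4, .X2, .X1, .X0, .y7, .y4, .y2, .p9, .hi, .p10, .hi, .p8, .hi, .p, .hi, .xii, .p10, .xii, .y1, .p4, .hi,
  .tau, .xii, .p, .xii, .y4, .hi, .xii, .y4, .y5, .tau, .xii, .y6, .p, .xii, .p, .xii, .y1, .y2, .y4, .X0, .p9, .xii,
  .y10, .p10, .xii, .y6, .tau, .xii, .y2, .p4, .xii, .p5, .y4, .xii, .tau, .xii, .p], [.Z4, .Z3, .X9, .X7, .X6, .X5,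
  .X4, .X2, .X1, .y10, .y9, .y4, .p2, .hi, .p10, .hi, .p5, .hi, .p, .hi, .p8, .xii, .p3, .hi, .xii, .y8, .tau, .y1,
  .xii, .p10, .xii, .y8, .p10, .xii, .tau, .xii, .p, .xii, .y1, .y10, .hi, .xii, .y4, .y5, .taui, .p10, .xii, .p2,
  .xii, .y1, .tau, .xii, .p9, .xii, .y3, .y9, .p3, .xii, .y5, .y8, .taui, .xii, .p4], [.Z9, .Z4, .Z1, .X10, .X6, .X2,
  .X1, .X0, .y4, .y3, .hi, .p4, .hi, .p5, .hi, .p10, .hi, .p3, .hi, .p3, .hi, .p8, .hi, .xii, .p, .xii, .p2, .hi,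
  .p2, .taui, .xii, .p, .xii, .y3, .hi, .xii, .y6, .y10, .taui, .xii, .p, .hi, .xii, .p5, .hi, .p2, .xii, .y1, .p,
  .xii, .tau, .xii, .p9, .xii, .y4, .y6, .p6, .xii, .y2, .tau, .xii, .y2, .p6], [.Z9, .Z8, .Z5, .Z3, .Z2, .Z1, .X3,
  .X1, .y8, .y7, .p5, .hi, .p4, .hi, .p8, .hi, .p8, .hi, .p7, .hi, .p6, .xii, .y2, .p, .xii, .p9, .tau, .xii, .y6,
  .p, .xii, .p, .xii, .y7, .y8, .tau, .xii, .y1, .p, .xii, .y4, .p, .xii, .y5, .y10, .taui, .p5, .xii, .y9, .p6,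
  .xii, .taui, .xii, .p9, .xii, .p5, .y8, .xii, .y10, .tau, .xii, .p10, .xii], [.Z9, .Z8, .Z7, .Z0, .X10, .X8, .X7,
  .X6, .X5, .y6, .y5, .p9, .hi, .p5, .hi, .p, .xii, .hi, .xii, .p10, .xii, .y3, .y7, .taui, .xii, .p, .xii, .y2,
  .y10, .hi, .xii, .y4, .y7, .taui, .y1, .xii, .p10, .xii, .y1, .p10, .y9, .xii, .y8, .tau, .X0, .p10, .xii, .y7,
  .p9, .xii, .y4, .taui, .xii, .p4, .xii, .y1, .y4, .p6, .xii, .y1, .tau, .xii, .p10], [.Z10, .Z6, .Z4, .Z3, .Z2,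
  .Z0, .X10, .X9, .X7, .y10, .y8, .y6, .y3, .y1, .p9, .hi, .p7, .hi, .p, .hi, .p4, .hi, .p4, .hi, .p4, .hi, .xii,
  .y2, .p10, .xii, .tau, .xii, .p, .xii, .y3, .hi, .xii, .y5, .y9, .tau, .y1, .xii, .y6, .p10, .xii, .y8, .p2, .xii,
  .p9, .xii, .y9, .tau, .xii, .y2, .p2, .xii, .p10, .xii, .y10, .tau, .xii, .p5, .xii], [.Z10, .Z6, .Z3, .Z2, .Z1,
  .Z0, .X10, .X5, .X4, .y7, .y2, .y1, .p7, .hi, .p3, .hi, .p7, .hi, .p8, .hi, .p, .hi, .p10, .xii, .p10, .hi, .p,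
  .taui, .xii, .y1, .p, .xii, .y10, .p, .xii, .y6, .taui, .y1, .xii, .p10, .xii, .y4, .p10, .xii, .y3, .y7, .taui,
  .p8, .xii, .p3, .xii, .y2, .taui, .xii, .p3, .xii, .y1, .hi, .xii, .y5, .tau, .xii, .p10], [.Z8, .Z2, .X9, .X7,
  .X6, .X3, .X1, .X0, .y10, .y8, .y7, .y4, .p, .hi, .p10, .hi, .p4, .hi, .p5, .hi, .p10, .xii, .y2, .hi, .xii, .p5,
  .hi, .p5, .taui, .y1, .xii, .p10, .xii, .y1, .p10, .y9, .xii, .taui, .xii, .y1, .p, .hi, .xii, .y5, .X0, .p9, .xii,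
  .p10, .xii, .y4, .taui, .xii, .p8, .xii, .y3, .p2, .y7, .xii, .y6, .taui, .xii, .y2, .p6], [.Z10, .Z8, .Z3, .Z0,
  .X6, .y10, .y7, .y4, .y3, .hi, .p3, .hi, .p6, .hi, .p9, .hi, .p4, .hi, .p7, .xii, .p10, .xii, .y5, .p6, .xii, .y3,
  .taui, .y1, .xii, .p10, .xii, .y4, .p10, .xii, .y2, .y8, .taui, .xii, .y6, .p, .xii, .p, .xii, .y5, .X0, .p10,
  .xii, .y5, .p5, .xii, .taui, .xii, .p5, .xii, .p7, .y2, .xii, .y7, .tau, .xii, .p8, .xii, .y6], [.Z10, .Z9, .Z8,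
  .Z3, .X10, .X9, .X2, .X1, .X0, .y7, .y5, .y2, .p10, .hi, .p4, .hi, .p10, .hi, .p4, .hi, .p3, .hi, .p6, .hi, .p8,
  .hi, .xii, .p3, .hi, .xii, .y8, .y9, .taui, .xii, .p, .xii, .hi, .y8, .xii, .y3, .tau, .xii, .p, .hi, .xii, .y7,
  .p, .xii, .p, .xii, .y8, .taui, .xii, .p7, .xii, .y2, .y4, .p8, .xii, .y8, .taui, .xii, .hi], [.Z9, .Z7, .Z6, .Z5,
  .Z2, .X9, .y9, .y6, .y5, .y3, .y2, .p10, .hi, .p9, .hi, .p6, .hi, .p8, .hi, .p4, .hi, .p2, .hi, .xii, .p10, .xii,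
  .y4, .p10, .xii, .y4, .y9, .taui, .y1, .xii, .p10, .xii, .y1, .y7, .p10, .xii, .y4, .taui, .xii, .hi, .p6, .xii,
  .p10, .xii, .y5, .y8, .tau, .xii, .p4, .xii, .p10, .xii, .y3, .y6, .taui, .xii, .p8, .xii, .y7], [.Z9, .Z8, .Z7,
  .Z3, .Z2, .Z0, .X8, .X5, .X4, .X3, .y10, .y9, .y8, .y3, .hi, .p6, .hi, .p10, .hi, .p9, .hi, .p4, .hi, .p4, .hi,
  .xii, .y2, .p10, .xii, .y8, .tau, .xii, .y6, .p, .xii, .p, .xii, .y6, .y10, .tau, .xii, .p3, .hi, .p3, .hi, .p9,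
  .xii, .p2, .y7, .xii, .tau, .xii, .p7, .xii, .p9, .y3, .xii, .y2, .y7, .taui, .xii, .y2, .p6], [.Z8, .Z3, .Z1,
  .X10, .X8, .X6, .X3, .X2, .X0, .y10, .y8, .y7, .hi, .p6, .hi, .p5, .hi, .p10, .hi, .p10, .hi, .p2, .hi, .xii, .p,
  .xii, .p7, .xii, .y2, .taui, .xii, .y6, .p, .xii, .p, .xii, .y4, .y6, .taui, .xii, .p, .hi, .xii, .p10, .y4, .X0,
  .y1, .p7, .xii, .hi, .xii, .tau, .xii, .p7, .xii, .y7, .p3, .xii, .tau, .xii, .p4, .hi, .p6], [.Z9, .Z5, .Z1, .Z0,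
  .X10, .X7, .X4, .X2, .y5, .y4, .y1, .p8, .hi, .p6, .hi, .p6, .hi, .p3, .hi, .p9, .hi, .p7, .hi, .xii, .p, .xii,
  .y10, .hi, .p10, .taui, .xii, .p, .xii, .y2, .hi, .xii, .y5, .taui, .xii, .p, .xii, .y4, .hi, .xii, .y5, .y9, .y10,
  .p5, .xii, .p6, .xii, .y6, .taui, .xii, .p7, .xii, .p9, .y6, .xii, .y2, .tau, .xii, .y2], [.Z2, .X7, .X6, .X3, .X1,
  .X0, .y10, .y9, .y6, .hi, .p8, .hi, .p6, .hi, .p7, .hi, .p3, .hi, .p10, .hi, .p, .xii, .y2, .p, .xii, .y3, .taui,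
  .xii, .p, .xii, .y2, .hi, .xii, .y7, .y10, .taui, .xii, .p, .xii, .hi, .y8, .xii, .y6, .y10, .taui, .p9, .xii, .p2,
  .y4, .xii, .taui, .xii, .y2, .p3, .xii, .y3, .hi, .xii, .tau, .xii, .p5, .xii, .y1], [.Z10, .Z8, .X10, .X9, .X7,
  .X6, .y8, .y4, .y3, .hi, .p5, .hi, .p4, .hi, .p3, .hi, .p6, .hi, .p4, .hi, .p10, .xii, .p, .xii, .y10, .p7, .tau,
  .xii, .p, .xii, .y2, .hi, .xii, .y4, .y5, .tau, .xii, .y2, .p, .hi, .xii, .y6, .p5, .hi, .p5, .y1, .p5, .xii, .p,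
  .xii, .y7, .tau, .xii, .p9, .xii, .y3, .p5, .xii, .y7, .taui, .xii, .p10, .xii, .y8], [.Z10, .Z8, .Z6, .Z5, .Z1,
  .Z0, .X7, .X6, .X3, .X1, .X0, .y6, .y5, .y2, .p5, .hi, .p10, .hi, .p7, .hi, .p9, .hi, .p5, .hi, .p2, .xii, .y2, .p,
  .xii, .hi, .p10, .taui, .xii, .p, .xii, .hi, .y8, .xii, .y7, .taui, .y1, .xii, .y2, .p10, .xii, .y10, .X0, .p10,
  .xii, .y6, .p6, .xii, .tau, .xii, .p5, .xii, .y7, .p, .xii, .y5, .taui, .xii, .hi, .xii], [.Z8, .Z7, .Z6, .Z4, .Z1,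
  .X9, .X8, .X1, .y9, .y1, .p5, .hi, .p5, .hi, .p3, .hi, .p6, .hi, .p, .hi, .p, .xii, .hi, .p8, .xii, .y3, .p10,
  .tau, .xii, .p, .xii, .y1, .hi, .xii, .y4, .y7, .tau, .xii, .y1, .p3, .hi, .xii, .p10, .y5, .X0, .y1, .p7, .xii,
  .p9, .xii, .y7, .tau, .xii, .p6, .xii, .p2, .xii, .y1, .y5, .taui, .xii, .y2, .p5, .hi], [.Z6, .Z5, .Z2, .X10, .X9,
  .X4, .X1, .y10, .y8, .y6, .y5, .y4, .y3, .p5, .hi, .p7, .hi, .p4, .xii, .p3, .hi, .xii, .y7, .p4, .hi, .p2, .tau,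
  .y1, .xii, .y2, .hi, .xii, .p10, .xii, .y10, .tau, .xii, .p, .xii, .y2, .hi, .xii, .y2, .y3, .taui, .X0, .y1, .p5,
  .xii, .p6, .xii, .y4, .tau, .xii, .p5, .xii, .y4, .y7, .p5, .xii, .y1, .taui, .xii, .p4], [.Z9, .Z7, .Z5, .Z4, .Z0,
  .X8, .X7, .X6, .X2, .X1, .y9, .y7, .y5, .y3, .y1, .p8, .hi, .p4, .hi, .p6, .hi, .p10, .hi, .p8, .hi, .xii, .p3,
  .hi, .xii, .p3, .hi, .taui, .xii, .p, .xii, .y1, .hi, .xii, .y2, .y3, .taui, .y1, .xii, .y1, .p10, .X0, .p9, .xii,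
  .y10, .hi, .xii, .y7, .taui, .xii, .p4, .xii, .y5, .y10, .p4, .xii, .y2, .tau, .xii, .p], [.Z9, .Z2, .X10, .X7,
  .X2, .X1, .X0, .y10, .y8, .y7, .y4, .y3, .y2, .y1, .hi, .p10, .hi, .p3, .hi, .p7, .hi, .p7, .hi, .p9, .xii, .p,
  .xii, .y1, .tau, .y1, .xii, .p10, .xii, .y2, .p10, .xii, .y2, .taui, .y1, .xii, .p10, .xii, .y1, .p10, .xii, .y1,
  .y5, .taui, .X0, .p9, .xii, .hi, .xii, .taui, .xii, .p7, .xii, .y1, .p9, .xii, .y8, .taui, .xii, .p10], [.Z10, .Z9,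
  .Z8, .X10, .X6, .X5, .X4, .X1, .X0, .y7, .y6, .y5, .y3, .y2, .hi, .p6, .hi, .p8, .hi, .p6, .hi, .p7, .hi, .p6, .hi,
  .xii, .p3, .hi, .xii, .y1, .y6, .taui, .y1, .xii, .y2, .hi, .xii, .y9, .p10, .xii, .y4, .tau, .y1, .xii, .y2, .hi,
  .xii, .y9, .p5, .xii, .p9, .xii, .taui, .xii, .p2, .xii, .p10, .xii, .y6, .y7, .taui, .xii, .p5, .xii], [.Z10, .Z9,
  .Z8, .Z5, .Z0, .X10, .X8, .X6, .y10, .y4, .y3, .y2, .p9, .hi, .p7, .hi, .p4, .hi, .p5, .hi, .p8, .hi, .p7, .hi,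
  .xii, .p, .xii, .y4, .p4, .taui, .xii, .y1, .p, .xii, .y2, .p, .xii, .y3, .tau, .xii, .p, .xii, .y4, .hi, .xii,
  .p9, .xii, .p, .xii, .y2, .tau, .xii, .p7, .xii, .y5, .y7, .p8, .xii, .y7, .taui, .xii, .y2, .p6, .xii], [.Z10,
  .Z9, .Z5, .X8, .X7, .X4, .y4, .y2, .p9, .hi, .p3, .hi, .p9, .hi, .p, .hi, .p, .xii, .p10, .xii, .y8, .p8, .xii,
  .y4, .taui, .y1, .xii, .y2, .hi, .xii, .y10, .p10, .xii, .y4, .y9, .tau, .xii, .p, .xii, .hi, .y8, .xii, .y4, .y6,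
  .tau, .X0, .y1, .p9, .xii, .p10, .xii, .y6, .taui, .xii, .p7, .xii, .y1, .y2, .p8, .xii, .y7, .taui, .xii, .p10],
  [.Z10, .Z7, .Z5, .Z2, .X9, .X4, .X0, .y9, .y8, .y7, .y4, .y3, .y2, .y1, .p, .hi, .p6, .hi, .p4, .hi, .p9, .xii,
  .y2, .p, .xii, .y3, .y4, .taui, .xii, .y2, .p, .xii, .y1, .hi, .xii, .y4, .y5, .taui, .xii, .p, .xii, .hi, .y8,
  .xii, .y7, .y10, .p4, .xii, .p8, .xii, .taui, .xii, .p5, .xii, .y5, .y8, .p, .xii, .y3, .taui, .xii, .hi, .xii,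
  .y8], [.Z10, .Z8, .Z3, .Z2, .X4, .X1, .y9, .y8, .y5, .y2, .p10, .hi, .p2, .hi, .p8, .hi, .p4, .hi, .p7, .xii, .p3,
  .hi, .xii, .y8, .p6, .tau, .xii, .p, .xii, .y1, .y10, .hi, .xii, .y1, .tau, .xii, .y1, .p, .xii, .p, .xii, .y2,
  .y5, .taui, .X0, .p8, .xii, .y6, .p4, .xii, .y1, .tau, .xii, .p7, .xii, .y1, .y5, .p9, .xii, .y7, .tau, .xii, .p10,
  .xii], [.Z10, .Z6, .Z3, .Z0, .X4, .X0, .y10, .y9, .y4, .y3, .y1, .p7, .hi, .p8, .hi, .p6, .hi, .p10, .hi, .p, .hi,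
  .p9, .hi, .xii, .p10, .hi, .p, .tau, .xii, .p, .xii, .y4, .hi, .xii, .y1, .taui, .y1, .xii, .p10, .xii, .y5, .p10,
  .xii, .y10, .taui, .X0, .p5, .xii, .y2, .p7, .xii, .y7, .tau, .xii, .p9, .xii, .y9, .p5, .xii, .y1, .tau, .xii,
  .y2, .p2], [.Z9, .Z8, .X4, .X3, .y10, .y9, .y8, .y4, .y2, .y1, .p7, .hi, .p10, .hi, .p5, .hi, .p8, .hi, .p8, .hi,
  .p3, .hi, .xii, .p, .xii, .y10, .p4, .xii, .tau, .xii, .p, .xii, .hi, .y8, .xii, .y4, .y7, .y8, .taui, .xii, .y6,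
  .p, .xii, .y6, .p3, .hi, .y1, .p8, .xii, .y5, .p10, .xii, .taui, .xii, .y2, .p5, .xii, .y5, .p7, .xii, .y4, .taui,
  .xii, .p8], [.Z10, .Z7, .Z6, .X4, .X2, .y10, .y9, .y7, .y6, .y5, .y3, .y2, .p8, .hi, .p8, .hi, .p10, .hi, .p3, .hi,
  .p10, .hi, .p2, .hi, .xii, .p, .xii, .hi, .p10, .taui, .xii, .y1, .p, .xii, .y4, .p, .xii, .y1, .y10, .tau, .xii,
  .p, .xii, .y1, .hi, .xii, .y1, .X0, .p5, .xii, .y3, .p7, .xii, .taui, .xii, .p7, .xii, .y4, .p7, .xii, .y1, .taui,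
  .xii, .p], [.Z10, .Z2, .Z1, .Z0, .X9, .X8, .X3, .X0, .y10, .y6, .y5, .p5, .hi, .p9, .hi, .p7, .hi, .p7, .hi, .p7,
  .hi, .xii, .p10, .xii, .y7, .p3, .hi, .p5, .tau, .xii, .p, .xii, .y1, .y10, .hi, .xii, .y7, .taui, .y1, .xii, .y2,
  .hi, .xii, .y10, .p9, .xii, .y6, .p6, .xii, .y6, .taui, .xii, .p2, .xii, .p7, .y7, .xii, .y7, .y10, .tau, .xii,
  .p8, .xii, .y6], [.Z7, .Z2, .X10, .X7, .X4, .X3, .X0, .y10, .y8, .y7, .y6, .y5, .y4, .p4, .hi, .p3, .hi, .p3, .hi,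
  .p3, .hi, .p6, .hi, .xii, .y2, .p2, .hi, .xii, .tau, .y1, .xii, .p10, .xii, .y8, .p10, .xii, .y2, .taui, .y1, .xii,
  .p10, .xii, .y2, .p10, .xii, .y4, .p4, .xii, .p8, .xii, .y9, .tau, .xii, .p5, .xii, .y9, .p8, .xii, .y5, .tau,
  .xii, .y2, .hi, .xii], [.Z9, .Z5, .Z1, .Z0, .X10, .X8, .X7, .X6, .X2, .X1, .y9, .y4, .y1, .p, .hi, .p, .hi, .p7,
  .hi, .p8, .hi, .p7, .xii, .y2, .p10, .xii, .y10, .tau, .xii, .y6, .p, .xii, .p, .xii, .y5, .y10, .taui, .xii, .p,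
  .xii, .hi, .y8, .xii, .y1, .tau, .p10, .xii, .y2, .p6, .xii, .y9, .taui, .xii, .p7, .xii, .p9, .y8, .xii, .y5,
  .taui, .xii, .y2, .p4, .hi], [.Z6, .Z5, .Z4, .X10, .X8, .X6, .X4, .X2, .y10, .y6, .y5, .p2, .hi, .p4, .hi, .p8,
  .hi, .p9, .hi, .p, .hi, .p9, .xii, .p10, .xii, .p9, .y6, .xii, .y5, .tau, .xii, .p, .xii, .y4, .hi, .xii, .y3, .y4,
  .tau, .xii, .y1, .p3, .hi, .xii, .y2, .p10, .X0, .p8, .xii, .hi, .xii, .y8, .tau, .xii, .p6, .xii, .p10, .xii, .y8,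
  .tau, .xii, .y2, .p5, .hi], [.Z8, .Z7, .Z4, .Z0, .X9, .X4, .y10, .y7, .y4, .hi, .p9, .hi, .p7, .hi, .p6, .hi, .p4,
  .hi, .p8, .hi, .p9, .xii, .p, .xii, .p7, .xii, .taui, .y1, .xii, .p10, .xii, .y1, .p10, .xii, .y9, .taui, .y1,
  .xii, .p10, .xii, .p10, .y7, .xii, .y8, .tau, .p10, .xii, .y10, .p2, .xii, .y8, .taui, .xii, .y2, .p9, .xii, .y5,
  .p6, .xii, .y7, .taui, .xii, .y2, .p2], [.Z10, .Z6, .Z3, .X9, .X7, .X3, .X0, .y8, .y6, .y4, .y2, .p8, .hi, .p10,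
  .hi, .p8, .hi, .p7, .hi, .p9, .hi, .p4, .xii, .p3, .hi, .xii, .y5, .p6, .tau, .xii, .y1, .p, .xii, .y4, .p, .xii,
  .y7, .y10, .tau, .xii, .p, .xii, .y4, .hi, .xii, .y7, .taui, .p4, .xii, .hi, .xii, .y6, .tau, .xii, .p9, .xii, .y1,
  .y5, .p3, .xii, .taui, .xii, .y2, .p2], [.Z7, .Z2, .Z1, .X6, .X3, .X2, .y9, .y7, .y6, .y5, .p2, .hi, .p10, .hi,
  .p5, .hi, .p8, .hi, .p7, .hi, .p3, .hi, .xii, .p10, .xii, .y5, .p10, .xii, .taui, .xii, .p, .xii, .y1, .y6, .hi,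
  .xii, .y4, .y7, .tau, .xii, .y2, .hi, .p8, .hi, .p8, .y1, .p8, .xii, .p4, .xii, .taui, .xii, .p4, .xii, .y3, .p5,
  .xii, .y1, .y5, .taui, .xii, .y2, .hi, .p2], [.Z10, .Z8, .Z7, .Z6, .Z4, .Z1, .X8, .X3, .y10, .y8, .y7, .y4, .y3,
  .y2, .y1, .hi, .p10, .hi, .p3, .hi, .p7, .hi, .p7, .hi, .p9, .xii, .p, .xii, .y1, .tau, .y1, .xii, .p10, .xii, .y2,
  .p10, .xii, .y2, .taui, .y1, .xii, .p10, .xii, .y1, .p10, .xii, .y1, .y5, .taui, .X0, .p9, .xii, .hi, .xii, .taui,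
  .xii, .p7, .xii, .y1, .p9, .xii, .y8, .taui, .xii, .p10], [.Z10, .Z8, .Z7, .Z6, .Z5, .Z4, .Z2, .Z1, .Z0, .X7, .X4,
  .X2, .y10, .y8, .y7, .y5, .y4, .y3, .p6, .hi, .p, .hi, .p, .hi, .p4, .xii, .p, .xii, .y6, .tau, .xii, .y1, .p,
  .xii, .p, .xii, .y2, .y5, .tau, .y1, .xii, .p10, .xii, .y1, .y7, .p10, .xii, .y4, .X0, .p3, .xii, .p10, .xii,
  .taui, .xii, .p5, .xii, .y4, .y5, .p9, .xii, .y7, .tau, .xii, .p7], [.Z9, .Z8, .Z4, .Z2, .Z0, .X10, .X8, .X4, .X0,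
  .y9, .y4, .y2, .hi, .p7, .hi, .p9, .hi, .p4, .hi, .p6, .hi, .p10, .hi, .p5, .xii, .y2, .hi, .p8, .xii, .taui, .y1,
  .xii, .y2, .hi, .xii, .p10, .xii, .y1, .y7, .taui, .xii, .y6, .p, .xii, .hi, .y7, .p3, .xii, .p2, .xii, .y2, .y10,
  .taui, .xii, .p4, .xii, .y10, .p6, .xii, .y10, .taui, .xii, .p10, .xii, .y8], [.Z8, .Z7, .Z3, .Z2, .Z0, .X9, .X4,
  .X2, .y10, .y9, .y6, .y3, .y2, .hi, .p, .hi, .p, .hi, .p8, .hi, .p4, .hi, .p4, .hi, .p2, .xii, .y2, .hi, .p8, .xii,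
  .y9, .y10, .tau, .y1, .xii, .p10, .xii, .y5, .p10, .xii, .taui, .X0, .y1, .p6, .xii, .p, .xii, .hi, .p2, .xii, .hi,
  .xii, .y5, .tau, .xii, .p9, .xii, .y1, .y10, .p8, .xii, .y5, .taui, .xii, .p8], [.Z8, .Z5, .Z3, .Z2, .Z1, .X7, .X1,
  .X0, .y10, .y9, .y7, .y6, .y3, .p9, .hi, .p, .hi, .p5, .hi, .p, .hi, .p, .xii, .p3, .hi, .xii, .y7, .p6, .taui,
  .xii, .y2, .p, .xii, .y2, .hi, .xii, .y7, .tau, .xii, .p, .xii, .y4, .y10, .hi, .xii, .y4, .y7, .tau, .p10, .xii,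
  .p10, .xii, .tau, .xii, .y2, .p8, .xii, .y7, .p2, .xii, .y3, .taui, .xii, .p10, .xii], [.Z9, .Z7, .Z0, .X10, .X9,
  .X3, .X2, .y9, .y6, .y5, .p, .hi, .p, .hi, .p4, .hi, .p, .hi, .p6, .hi, .xii, .p10, .xii, .y9, .p3, .hi, .p5,
  .taui, .y1, .xii, .y1, .hi, .xii, .p10, .xii, .y9, .tau, .xii, .y6, .p, .xii, .y10, .p, .xii, .y5, .y10, .taui,
  .p10, .xii, .y2, .p2, .xii, .y8, .tau, .xii, .p7, .xii, .p9, .y1, .xii, .y2, .y9, .tau, .xii, .p4], [.Z9, .Z6, .Z2,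
  .Z1, .X10, .X8, .X4, .X2, .y9, .y8, .y7, .y6, .y5, .y2, .p4, .hi, .p7, .hi, .p9, .hi, .p8, .hi, .p10, .hi, .p10,
  .xii, .y2, .p10, .xii, .y2, .tau, .xii, .y1, .p, .xii, .y2, .p, .xii, .y6, .taui, .xii, .y2, .hi, .p8, .xii, .X0,
  .p8, .xii, .y4, .p, .xii, .y7, .tau, .xii, .p7, .xii, .y5, .y9, .y10, .p9, .xii, .y7, .tau, .xii, .hi], [.Z9, .Z6,
  .Z5, .Z4, .Z3, .Z2, .X9, .X7, .X5, .X0, .y8, .y7, .y6, .y5, .hi, .p, .hi, .p8, .hi, .p6, .hi, .p9, .xii, .y2, .hi,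
  .p8, .xii, .y3, .p10, .taui, .xii, .y2, .p, .xii, .y1, .hi, .xii, .y2, .y3, .tau, .y1, .xii, .p10, .xii, .p10, .hi,
  .y4, .p6, .xii, .p10, .xii, .y5, .tau, .xii, .p4, .xii, .y10, .p6, .xii, .y10, .taui, .xii, .p10, .xii, .y8], [.Z8,
  .Z5, .Z4, .Z3, .Z2, .Z1, .X9, .X8, .X5, .X4, .X3, .X0, .y10, .y9, .y8, .y6, .y4, .y2, .y1, .p8, .hi, .p, .hi, .p7,
  .hi, .p8, .hi, .p, .hi, .p, .xii, .y2, .hi, .xii, .p5, .taui, .xii, .p, .xii, .y4, .hi, .xii, .y4, .y7, .taui,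
  .xii, .hi, .p2, .xii, .p10, .y7, .xii, .taui, .xii, .p4, .xii, .p8, .y10, .xii, .y7, .taui, .xii, .hi, .xii, .y8],
  [.Z2, .Z1, .X9, .X8, .X7, .X6, .X3, .y10, .y9, .y8, .y6, .y5, .y2, .p10, .hi, .p5, .hi, .p3, .hi, .p4, .hi, .p7,
  .hi, .p, .xii, .p, .xii, .y10, .p9, .xii, .y4, .taui, .y1, .xii, .p10, .xii, .y5, .p10, .xii, .y9, .tau, .xii, .p,
  .xii, .p2, .hi, .xii, .taui, .p4, .xii, .p, .xii, .tau, .xii, .p5, .xii, .y6, .p2, .y10, .xii, .y9, .taui, .xii,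
  .y2, .p2], [.Z10, .Z9, .Z2, .X10, .X9, .X7, .X3, .X2, .X0, .y9, .y1, .p5, .hi, .p5, .hi, .p3, .hi, .p6, .hi, .p,
  .hi, .p, .xii, .hi, .p8, .xii, .y3, .p10, .tau, .xii, .p, .xii, .y1, .hi, .xii, .y4, .y7, .tau, .xii, .y1, .p3,
  .hi, .xii, .p10, .y5, .X0, .y1, .p7, .xii, .p9, .xii, .y7, .tau, .xii, .p6, .xii, .p2, .xii, .y1, .y5, .taui, .xii,
  .y2, .p5, .hi], [.Z10, .Z7, .Z6, .Z3, .Z1, .Z0, .X10, .X9, .X4, .X1, .X0, .y10, .y8, .y7, .y5, .y1, .p5, .hi, .p4,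
  .hi, .p, .hi, .p6, .hi, .p9, .xii, .y2, .p5, .hi, .p5, .taui, .y1, .xii, .p10, .xii, .p10, .y7, .xii, .y8, .tau,
  .xii, .p, .xii, .y2, .hi, .xii, .y1, .tau, .p6, .xii, .p6, .xii, .y7, .tau, .xii, .p4, .xii, .y1, .y10, .p4, .xii,
  .y6, .taui, .xii, .p10], [.Z10, .Z8, .Z7, .Z6, .Z5, .Z4, .Z2, .Z0, .X6, .X3, .X0, .y9, .y4, .y1, .p, .hi, .p, .hi,
  .p7, .hi, .p8, .hi, .p7, .xii, .y2, .p10, .xii, .y10, .tau, .xii, .y6, .p, .xii, .p, .xii, .y5, .y10, .taui, .xii,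
  .p, .xii, .hi, .y8, .xii, .y1, .tau, .p10, .xii, .y2, .p6, .xii, .y9, .taui, .xii, .p7, .xii, .p9, .y8, .xii, .y5,
  .taui, .xii, .y2, .p4, .hi], [.Z10, .Z8, .Z6, .Z3, .Z2, .X4, .X3, .X2, .y9, .y8, .y3, .y1, .p9, .hi, .p9, .hi, .p,
  .hi, .p, .hi, .p5, .hi, .xii, .y2, .p, .hi, .xii, .p10, .taui, .xii, .y6, .p, .xii, .y10, .p, .xii, .y1, .y2,
  .taui, .y1, .xii, .y2, .p10, .xii, .y8, .p10, .xii, .y7, .p6, .xii, .y9, .tau, .xii, .p5, .xii, .y1, .y9, .p8,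
  .xii, .y1, .taui, .xii, .y2, .hi, .xii], [.Z9, .Z8, .Z7, .Z5, .Z2, .Z1, .X8, .X7, .X4, .X0, .y6, .y5, .y4, .hi,
  .p9, .hi, .p6, .hi, .p7, .hi, .p10, .hi, .p10, .hi, .p5, .hi, .xii, .p, .xii, .y3, .hi, .xii, .y5, .taui, .xii,
  .y1, .p, .xii, .p, .xii, .y5, .tau, .X0, .xii, .p3, .xii, .hi, .xii, .p3, .xii, .p2, .xii, .tau, .xii, .p7, .xii,
  .y9, .p7, .xii, .y7, .taui, .xii, .y2, .hi, .p2], [.Z10, .Z8, .Z7, .Z5, .Z3, .Z2, .Z1, .X3, .X0, .y8, .y7, .y6,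
  .y4, .y3, .y1, .p7, .hi, .p4, .hi, .p10, .hi, .p6, .hi, .p10, .xii, .hi, .p8, .xii, .p2, .y2, .tau, .xii, .p, .xii,
  .y2, .hi, .xii, .y2, .y3, .tau, .y1, .xii, .hi, .xii, .y1, .p9, .xii, .y10, .hi, .xii, .y6, .taui, .xii, .y2, .p4,
  .xii, .y6, .p10, .xii, .y1, .tau, .xii, .p2, .xii, .y3], [.Z9, .Z8, .Z3, .Z2, .Z1, .X8, .X4, .y10, .y9, .y6, .y4,
  .hi, .p4, .hi, .p9, .hi, .p5, .hi, .p3, .hi, .p6, .hi, .p4, .xii, .p, .xii, .p4, .hi, .p8, .tau, .xii, .y2, .p,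
  .xii, .y4, .hi, .xii, .y5, .y10, .taui, .xii, .y6, .p, .xii, .p, .xii, .y5, .y10, .p10, .xii, .y6, .p8, .xii, .y8,
  .taui, .xii, .p9, .xii, .y1, .y10, .p8, .xii, .y5, .taui, .xii, .p8], [.Z9, .Z8, .Z4, .Z0, .X9, .X8, .X5, .X1, .X0,
  .y10, .y7, .y5, .y4, .y2, .p3, .hi, .p4, .hi, .p8, .hi, .p, .hi, .p5, .xii, .hi, .p8, .xii, .y3, .y7, .taui, .y1,
  .xii, .y2, .hi, .xii, .p10, .xii, .y3, .y7, .taui, .xii, .p, .xii, .y1, .y10, .hi, .xii, .y1, .X0, .p3, .xii, .p8,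
  .xii, .y3, .tau, .xii, .p4, .xii, .y3, .p5, .y9, .xii, .y7, .taui, .xii, .p], [.Z9, .Z8, .Z5, .Z4, .Z1, .Z0, .X10,
  .X9, .X7, .X6, .X4, .y10, .y7, .p7, .hi, .p3, .hi, .p7, .hi, .p8, .hi, .p3, .hi, .xii, .p10, .xii, .y1, .p5, .hi,
  .p5, .tau, .xii, .p, .xii, .y4, .hi, .xii, .y7, .tau, .xii, .p3, .hi, .xii, .y2, .y8, .X0, .p10, .xii, .y5, .p9,
  .xii, .y1, .taui, .xii, .p5, .xii, .y3, .p8, .xii, .y1, .y7, .taui, .xii, .y2, .hi, .p6], [.Z6, .Z0, .X8, .X7, .X4,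
  .X3, .X2, .X0, .y9, .y7, .y4, .y3, .y2, .p10, .hi, .p6, .hi, .p6, .hi, .p4, .hi, .p6, .hi, .p2, .xii, .p, .xii,
  .y6, .p9, .tau, .xii, .p, .xii, .y1, .y10, .hi, .xii, .y4, .y5, .taui, .y1, .xii, .p10, .xii, .y1, .p10, .xii, .y4,
  .taui, .X0, .p8, .xii, .p, .xii, .y8, .taui, .xii, .y2, .p6, .xii, .p4, .xii, .y4, .y7, .taui, .xii, .p4], [.Z8,
  .Z5, .Z4, .Z3, .Z1, .Z0, .X9, .X8, .X6, .X4, .X3, .y9, .y8, .y6, .y3, .y2, .p6, .hi, .p7, .hi, .p, .hi, .p, .hi,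
  .p8, .xii, .p2, .hi, .xii, .taui, .xii, .p, .xii, .y4, .hi, .xii, .y4, .y7, .tau, .xii, .y6, .p, .xii, .p, .xii,
  .y5, .y10, .p9, .xii, .y2, .p10, .xii, .y8, .tau, .xii, .p5, .xii, .y4, .y8, .p, .xii, .y3, .tau, .xii, .y2, .hi,
  .xii], [.Z5, .Z4, .Z2, .Z1, .X10, .X8, .X5, .X4, .X3, .X1, .y10, .y7, .y6, .y5, .y2, .y1, .hi, .p9, .hi, .p7, .hi,
  .p10, .hi, .p3, .hi, .p, .xii, .p3, .hi, .xii, .p3, .hi, .taui, .xii, .p, .xii, .y3, .y10, .hi, .xii, .y6, .taui,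
  .xii, .y6, .hi, .p8, .xii, .y1, .hi, .p10, .X0, .y1, .p9, .xii, .p2, .xii, .y6, .tau, .xii, .p4, .xii, .p8, .xii,
  .y2, .tau, .xii, .hi, .xii]]

theorem com20J : comA w10F T20J = true := by decide +kernel

theorem orb20J : orbA w4J T20J [] = true := by decide +kernel

/-- words -/
def T40E : List (List Ltr) :=
  [[], [.z, .Z9, .Z6, .Z4, .Z0, .X9, .X8, .X7, .X6, .X4, .X3, .X2, .p6, .hi, .p, .hi, .p3, .hi, .p6, .hi, .p3, .xii,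
  .hi, .p8, .xii, .y9, .y10, .xii, .y2, .p3, .xii, .y3], [.z, .Z9, .Z6, .Z5, .Z3, .X8, .X5, .X3, .X2, .y8, .y5, .y4,
  .y1, .p8, .hi, .p9, .hi, .p6, .hi, .p7, .hi, .p3, .xii, .p, .xii, .hi, .p10, .y8, .p9, .xii, .p, .xii], [.z, .Z10,
  .Z9, .Z1, .X10, .X8, .X7, .X6, .X4, .y10, .y9, .p10, .hi, .p10, .hi, .p4, .hi, .p7, .hi, .p3, .hi, .p, .hi, .p7,
  .xii, .p2, .hi, .xii, .X0, .p5, .xii, .y5, .p10, .xii], [.Z10, .Z8, .Z6, .Z5, .Z4, .Z2, .X7, .X6, .X5, .X0, .y9,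
  .y5, .y4, .y3, .y2, .p6, .hi, .p3, .hi, .p3, .hi, .p9, .hi, .p, .xii, .p3, .xii, .hi, .xii, .hi, .p5, .xii, .p2,
  .y3], [.Z10, .Z9, .Z8, .Z7, .Z4, .Z3, .X9, .X4, .X2, .X1, .y5, .y1, .p10, .hi, .p4, .hi, .p7, .hi, .p3, .hi, .p4,
  .hi, .xii, .p, .xii, .hi, .y7, .p10, .X0, .p9, .xii, .y7, .hi, .xii], [.z, .Z9, .Z7, .Z4, .X9, .X7, .X6, .X1, .y8,
  .y7, .y6, .y4, .hi, .p, .hi, .p, .hi, .p4, .hi, .p4, .hi, .p2, .hi, .xii, .hi, .xii, .y6, .p9, .xii, .y7, .p5,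
  .xii, .p3, .y1], [.z, .Z9, .Z8, .Z7, .Z3, .Z2, .Z1, .X10, .X8, .X6, .y3, .hi, .p7, .hi, .p6, .hi, .p, .hi, .p7,
  .hi, .p2, .hi, .xii, .p, .xii, .p2, .hi, .p5, .y1, .p10, .xii, .p5, .xii, .y2], [.Z10, .Z8, .Z7, .Z6, .Z4, .X7,
  .X5, .X3, .X0, .y10, .y9, .y6, .y4, .y3, .y1, .p7, .hi, .p6, .hi, .p5, .hi, .p4, .hi, .p10, .xii, .p, .xii, .y6,
  .p3, .hi, .X0, .p9, .xii, .y4], [.Z7, .Z6, .X9, .X7, .X3, .X1, .y10, .y7, .y6, .y5, .y3, .hi, .p4, .hi, .p8, .hi,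
  .p8, .hi, .p9, .hi, .p, .hi, .xii, .hi, .xii, .p5, .hi, .p5, .X0, .y1, .p5, .xii, .p7, .xii, .y7], [.z, .Z10, .Z9,
  .Z7, .Z3, .Z1, .X10, .X9, .X8, .X6, .X5, .y10, .y9, .y8, .y2, .y1, .p5, .hi, .p8, .hi, .p10, .hi, .p5, .hi, .p3,
  .hi, .p, .hi, .xii, .y2, .hi, .p10, .X0, .p5, .xii, .p, .xii], [.Z7, .Z5, .Z4, .Z2, .Z0, .X10, .X8, .X7, .X6, .X4,
  .X3, .X2, .X1, .X0, .y10, .y6, .y5, .y3, .y2, .p9, .hi, .p4, .hi, .p3, .hi, .p7, .hi, .p8, .xii, .y2, .p, .xii, .p,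
  .xii, .y1, .X0, .p8, .xii, .y1]]

theorem com40E : comA w20G T40E = true := by decide +kernel

theorem orb40E : orbA w8G T40E [] = true := by decide +kernel

/-- words -/
def T60C : List (List Ltr) :=
  [[], [.z]]

theorem com60C : comA w30F T60C = true := by decide +kernel

theorem orb60C : orbA w4E T60C [] = true := by decide +kernel

end Cfsg.Agent.TAB.B.D
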